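/-
Field automorphisms of an extension of prime degree of a finite field.
-/
import Mathlib

set_option autoImplicit false

namespace CfsgLib.Geo.OrthExt

open Module

variable {F K : Type*} [Field F] [Fintype F] [Field K] [Algebra F K] [FiniteDimensional F K]
  (hr : (finrank F K).Prime)

include hr

omit [Fintype F] [FiniteDimensional F K] in
/-- Subalgebras are trivial. -/
theorem algHom_eq_id {σ : K →ₐ[F] K} {c : K} (hc : c ∉ Set.range (algebraMap F K)) (h : σ c = c) (x : K) :
    σ x = x := by
  let S : Subalgebra F K := AlgHom.equalizer σ (AlgHom.id F K)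
  haveI := Subalgebra.isSimpleOrder_of_finrank_prime F K hr
  rcases eq_bot_or_eq_top S with e | e
  · exact absurd (Algebra.mem_bot.1 (e ▸ h : c ∈ (⊥ : Subalgebra F K))) hc
  · exact (e ▸ Algebra.mem_top : x ∈ S)

/-- Automorphisms have order dividing the degree. -/
theorem algHom_iterate (σ : K →ₐ[F] K) (x : K) : σ^[finrank F K] x = x := by
  haveI : Finite K := Module.finite_of_finite F
  let e : K ≃ₐ[F] K := AlgEquiv.ofBijective σ ⟨σ.toRingHom.injective,
    Finite.injective_iff_surjective.1 σ.toRingHom.injective⟩
  have h := pow_card_eq_one' (x := e)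
  rw [IsGalois.card_aut_eq_finrank] at h
  have h2 : ∀ n : ℕ, ∀ y, (e ^ n) y = σ^[n] y := by
    intro n
    induction n with
    | zero => intro y; rfl
    | succ n ih =>
      intro y
      rw [pow_succ', Function.iterate_succ_apply', AlgEquiv.mul_apply, ih]
      rfl
  rw [← h2, h]
  rfl

/-- An involutory automorphism is trivial in odd degree. -/
theorem algHom_involution (hr2 : finrank F K ≠ 2) {σ : K →ₐ[F] K} {c : K} (hc : σ (σ c) = c) : σ c = c := by
  have hodd : Odd (finrank F K) := hr.odd_of_ne_two hr2
  obtain ⟨k, hk⟩ := hodd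
  have h : ∀ j : ℕ, σ^[2 * j] c = c := by
    intro j
    induction j with
    | zero => rfl
    | succ j ih => rw [show 2 * (j + 1) = 2 + 2 * j by ring, Function.iterate_add_apply, ih]; exact hc
  have h1 := algHom_iterate hr σ c
  rw [hk, show 2 * k + 1 = (2 * k).succ from rfl, Function.iterate_succ_apply', h] at h1
  exact h1

/-- No automorphism sends an element to its negative in odd degree. -/
theorem algHom_ne_neg (hr2 : finrank F K ≠ 2) (h2 : (2 : F) ≠ 0) {σ : K →ₐ[F] K} {c : K} (h : σ c = -c) :
    c = 0 := by
  have h1 := algHom_involution hr hr2 (σ := σ) (c := c) (by rw [h, map_neg, h, neg_neg])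
  have h3 : (2 : K) * c = 0 := by linear_combination h - h1
  rw [mul_eq_zero, ← map_ofNat (algebraMap F K) 2] at h3
  exact h3.resolve_left ((map_ne_zero _).2 h2)

/-- No automorphism of a quadratic extension translates by one. -/
theorem algHom_ne_add_one (hr2 : finrank F K = 2) (h2 : (2 : F) ≠ 0) {σ : K →ₐ[F] K} {c : K} :
    σ c ≠ c + 1 := by
  intro h
  have h1 := algHom_iterate hr σ c
  rw [hr2] at h1
  change σ (σ c) = c at h1
  rw [h, map_add, h, map_one, add_assoc, add_eq_left, one_add_one_eq_two, ← map_ofNat (algebraMap F K) 2] at h1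
  exact (map_ne_zero _).2 h2 h1

/-- An element has at most as many images as the degree. -/
theorem card_images_le (c : K) (s : Finset K) (h : ∀ x ∈ s, ∃ σ : K →ₐ[F] K, σ c = x) :
    s.card ≤ finrank F K := by
  classical
  choose! f hf using h
  refine (Finset.card_le_card_of_injOn f (fun x _ => Finset.mem_univ _) (fun x hx y hy e => ?_)).trans ?_
  · rw [← hf x hx, ← hf y hy, e]
  · exact AlgHom.card_le

end CfsgLib.Geo.OrthExt
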