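/-
Field facts for the three-dimensional case: common zeros of quadratic functions, square classes, determinants.
-/
import Cfsg.Agent.Lib.Geo.OrthExt.Galois
import Mathlib.FieldTheory.ChevalleyWarning

set_option autoImplicit false

namespace CfsgLib.Geo.OrthExt

open Module

variable {F K : Type*} [Field F] [Fintype F] [Field K] [Algebra F K] [FiniteDimensional F K]

open MvPolynomial in
/-- Few quadratic functions without constant terms have a common zero. -/
theorem exists_common_zero (μ : K →ₗ[F] F) {s : ℕ} (L N : Fin s → K) (h : 2 * s < finrank F K) :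
    ∃ k : K, k ≠ 0 ∧ ∀ j, μ (k * L j + k * k * N j) = 0 := by
  classical
  let β := Module.finBasis F K
  let f : Fin s → MvPolynomial (Fin (finrank F K)) F := fun j =>
    (∑ i, C (μ (β i * L j)) * X i) + ∑ i, ∑ l, C (μ (β i * β l * N j)) * (X i * X l)
  have hdeg : ∀ j, (f j).totalDegree ≤ 2 := by
    intro j
    refine (totalDegree_add _ _).trans (max_le ?_ ?_)
    · refine (totalDegree_finset_sum _ _).trans (Finset.sup_le fun i _ => ?_)
      refine (totalDegree_mul _ _).trans ?_
      rw [totalDegree_C, totalDegree_X]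
      norm_num
    · refine (totalDegree_finset_sum _ _).trans (Finset.sup_le fun i _ => ?_)
      refine (totalDegree_finset_sum _ _).trans (Finset.sup_le fun l _ => ?_)
      refine (totalDegree_mul _ _).trans ?_
      rw [totalDegree_C, zero_add]
      refine (totalDegree_mul _ _).trans ?_
      rw [totalDegree_X, totalDegree_X]
  have heval : ∀ (x : Fin (finrank F K) → F) j,
      eval x (f j) = μ ((∑ i, x i • β i) * L j + (∑ i, x i • β i) * (∑ i, x i • β i) * N j) := by
    intro x j
    simp only [f, map_add, map_sum, map_mul, eval_C, eval_X, Finset.sum_mul, Finset.mul_sum, smul_mul_assoc,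
      mul_smul_comm, map_smul, smul_eq_mul]
    congr 1
    · exact Finset.sum_congr rfl fun i _ => mul_comm _ _
    · rw [Finset.sum_comm]
      refine Finset.sum_congr rfl fun i _ => Finset.sum_congr rfl fun l _ => ?_
      ring
  obtain ⟨p, hp⟩ := CharP.exists F
  haveI : Fact p.Prime := ⟨CharP.char_is_prime F p⟩
  have hdvd := char_dvd_card_solutions_of_fintype_sum_lt (σ := Fin (finrank F K)) p (f := f) (by
    refine lt_of_le_of_lt (Finset.sum_le_sum fun j _ => hdeg j) ?_
    simp
    omega)
  have h0 : ∀ j, eval (0 : Fin (finrank F K) → F) (f j) = 0 := fun j => by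
    rw [heval]
    simp
  have hcard : 2 ≤ Fintype.card {x : Fin (finrank F K) → F // ∀ j, eval x (f j) = 0} := by
    have hpos : 0 < Fintype.card {x : Fin (finrank F K) → F // ∀ j, eval x (f j) = 0} :=
      Fintype.card_pos_iff.2 ⟨⟨0, h0⟩⟩
    exact (CharP.char_is_prime F p).two_le.trans (Nat.le_of_dvd hpos (by convert hdvd))
  obtain ⟨⟨x, hx⟩, hx0⟩ := Fintype.exists_ne_of_one_lt_card hcard ⟨0, h0⟩
  refine ⟨∑ i, x i • β i, fun e => hx0 (Subtype.ext ?_), fun j => by rw [← heval]; exact hx j⟩
  funext i
  exact Fintype.linearIndependent_iff.1 β.linearIndependent x e i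

omit [FiniteDimensional F K] in
/-- A nonsquare stays one in odd prime degree. -/
theorem not_isSquare_algebraMap [Finite K] (hr : (finrank F K).Prime) [FiniteDimensional F K] (hr2 : finrank F K ≠ 2)
    (h2 : (2 : F) ≠ 0) {s : F} (hs : ¬ IsSquare s) : ¬ IsSquare (algebraMap F K s) := by
  rintro ⟨x, hx⟩
  have hs0 : s ≠ 0 := fun e => hs (e ▸ IsSquare.zero)
  have hF : ringChar F ≠ 2 := fun e => h2 (by
    haveI := ringChar.of_eq e
    exact CharTwo.two_eq_zero)
  have hq : Fintype.card F % 2 = 1 := FiniteField.odd_card_of_char_ne_two hF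
  have h1 := FiniteField.pow_dichotomy hF hs0
  rw [FiniteField.isSquare_iff hF hs0] at hs
  have hx1 : (FiniteField.frobeniusAlgHom F K) x = -x := by
    show x ^ Fintype.card F = -x
    rw [show Fintype.card F = 2 * (Fintype.card F / 2) + 1 by omega, pow_succ, pow_mul, pow_two, ← hx, ← map_pow,
      h1.resolve_left hs, map_neg, map_one, neg_one_mul]
  have := algHom_ne_neg hr hr2 h2 hx1
  rw [this, mul_zero] at hx
  exact hs0 ((map_eq_zero _).1 hx)

/-- Nonsquares multiply to squares. -/
theorem isSquare_mul_of_not {L : Type*} [Field L] [Finite L] {a b : L} (ha : ¬ IsSquare a) (hb : ¬ IsSquare b) :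
    IsSquare (a * b) := by
  classical
  haveI := Fintype.ofFinite L
  have ha0 : a ≠ 0 := fun e => ha (e ▸ IsSquare.zero)
  have hb0 : b ≠ 0 := fun e => hb (e ▸ IsSquare.zero)
  rw [← quadraticChar_one_iff_isSquare (mul_ne_zero ha0 hb0), map_mul, quadraticChar_neg_one_iff_not_isSquare.2 ha,
    quadraticChar_neg_one_iff_not_isSquare.2 hb]
  norm_num

omit [FiniteDimensional F K] in
/-- Unipotent endomorphisms have determinant one. -/
theorem det_unipotent {V : Type*} [AddCommGroup V] [Module F V] [FiniteDimensional F V] {N : Module.End F V}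
    {m : ℕ} (hN : N ^ m = 0) : LinearMap.det (1 + N) = 1 := by
  rcases subsingleton_or_nontrivial V with hV | hV
  · rw [Subsingleton.elim (1 + N) 1, map_one]
  obtain ⟨p, hp⟩ := CharP.exists F
  haveI : Fact p.Prime := ⟨CharP.char_is_prime F p⟩
  haveI : CharP (Module.End F V) p :=
    charP_of_injective_algebraMap (algebraMap F (Module.End F V)).injective p
  have h1 : (1 + N) ^ p ^ m = 1 := by
    rw [add_pow_char_pow_of_commute p m (Commute.one_left N), one_pow,
      pow_eq_zero_of_le (Nat.lt_pow_self (CharP.char_is_prime F p).one_lt).le hN, add_zero]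
  have h2 := congrArg LinearMap.det h1
  rw [map_pow, map_one] at h2
  exact iterateFrobenius_inj F p m (by rw [iterateFrobenius_def, iterateFrobenius_def, h2, one_pow])

end CfsgLib.Geo.OrthExt
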