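/-
Isometries of a symmetric form over an extension field, and the overgroups of their squares.
-/
import Cfsg.Agent.Lib.Geo.FieldExtLines
import Cfsg.Agent.Lib.Known.QuadClassify
import Mathlib.FieldTheory.ChevalleyWarning

set_option autoImplicit false

namespace CfsgLib.Geo.OrthExt

open Module LinearMap CfsgLib.Geo.FieldExt
open LinearMap (BilinForm)

variable {F K V : Type*} [Field F] [Fintype F] [Field K] [Algebra F K] [AddCommGroup V] [Module F V] [Module K V]
  [IsScalarTower F K V] [FiniteDimensional F K] [FiniteDimensional K V]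

/-- A group of isometries of `μ ∘ B` of determinant one containing the squares of the isometries of `B`. -/
structure Setup (B : BilinForm K V) (μ : K →ₗ[F] F) (X : Subgroup (V ≃ₗ[F] V)) : Prop where
  symm : ∀ x y, B x y = B y x
  nondeg : B.Nondegenerate
  mu_one : μ 1 = 1
  two : (2 : F) ≠ 0
  preserves : ∀ g ∈ X, ∀ x y, μ (B (g x) (g y)) = μ (B x y)
  det_one : ∀ g ∈ X, LinearMap.det (g : V →ₗ[F] V) = 1
  sq : ∀ g : V ≃ₗ[K] V, (∀ x y, B (g x) (g y) = B x y) → (g.trans g).restrictScalars F ∈ X
  rank : 3 ≤ finrank K V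
  three : finrank K V = 3 → finrank F K ≠ 2
  prime : (finrank F K).Prime

variable {B : BilinForm K V} {μ : K →ₗ[F] F} {X : Subgroup (V ≃ₗ[F] V)} (hs : Setup B μ X)
include hs

omit [Fintype F] [FiniteDimensional F K] [FiniteDimensional K V] in
theorem Setup.two' : (2 : K) ≠ 0 := by
  rw [← map_ofNat (algebraMap F K) 2]
  exact (map_ne_zero _).2 hs.two

omit [Fintype F] [FiniteDimensional F K] [FiniteDimensional K V] in
theorem Setup.eq_zero_of_mu {c : K} (h : ∀ d, μ (d * c) = 0) : c = 0 := by
  by_contra hc
  have := h c⁻¹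
  rw [inv_mul_cancel₀ hc, hs.mu_one] at this
  exact one_ne_zero this

omit [Fintype F] [FiniteDimensional F K] [FiniteDimensional K V] in
/-- Orthogonality to a line over the smaller field. -/
theorem Setup.eq_zero_of_line {u y : V} (h : ∀ k : K, μ (B (k • u) y) = 0) : B u y = 0 :=
  hs.eq_zero_of_mu fun k => by simpa using h k

omit [Fintype F] [FiniteDimensional F K] [FiniteDimensional K V] in
theorem Setup.eq_zero_of_pairing {x : V} (hx : ∀ z, μ (B x z) = 0) : x = 0 :=
  hs.nondeg.1 x fun z => hs.eq_zero_of_mu fun d => by simpa using hx (d • z)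

omit [Fintype F] [FiniteDimensional F K] [FiniteDimensional K V] in
theorem Setup.self_add (x y : V) : B (x + y) (x + y) = B x x + B y y + 2 * B x y := by
  simp [hs.symm y x]
  ring

omit [Fintype F] [FiniteDimensional F K] [FiniteDimensional K V] in
theorem Setup.exists_pairing {v : V} (hv : v ≠ 0) : ∃ f, B v f = 1 := by
  obtain ⟨f₀, hf₀⟩ : ∃ f, B v f ≠ 0 := by
    by_contra! hall
    exact hv (hs.nondeg.1 v hall)
  exact ⟨(B v f₀)⁻¹ • f₀, by rw [map_smul, smul_eq_mul, inv_mul_cancel₀ hf₀]⟩

omit [Fintype F] [FiniteDimensional F K] [FiniteDimensional K V] in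
/-- A singular partner of a singular vector. -/
theorem Setup.exists_partner {v : V} (hv : v ≠ 0) (hvv : B v v = 0) : ∃ f, B v f = 1 ∧ B f f = 0 := by
  obtain ⟨f, hf⟩ := hs.exists_pairing hv
  refine ⟨f + (-(B f f / 2)) • v, by simp [hf, hvv], ?_⟩
  have := hs.two'
  rw [hs.self_add]
  simp [hs.symm f v, hf, hvv]
  field_simp
  ring

/-- The vectors perpendicular to a family. -/
def perpK (B : BilinForm K V) (S : Submodule K V) : Submodule K V := B.orthogonal S

omit [Fintype F] [FiniteDimensional F K] in
theorem Setup.exists_perp_ne_zero {S : Submodule K V} (hlt : finrank K S < finrank K V) :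
    ∃ x, x ≠ 0 ∧ ∀ s ∈ S, B s x = 0 := by
  have h := LinearMap.BilinForm.finrank_orthogonal hs.nondeg S
  obtain ⟨x, hx, hx0⟩ := (Submodule.ne_bot_iff (B.orthogonal S)).1 (fun e => by
    rw [e, finrank_bot] at h
    omega)
  exact ⟨x, hx0, fun s hs' => hx s hs'⟩

omit [Fintype F] [FiniteDimensional F K] in
/-- An anisotropic vector perpendicular to a nondegenerate proper subspace. -/
theorem Setup.exists_aniso_perp {S : Submodule K V} (hS : ∀ x ∈ S, (∀ s ∈ S, B s x = 0) → x = 0)
    (hlt : finrank K S < finrank K V) : ∃ x, B x x ≠ 0 ∧ ∀ s ∈ S, B s x = 0 := by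
  by_contra! hall
  have hT : ∀ x ∈ B.orthogonal S, B x x = 0 := fun x hx => by
    by_contra h
    obtain ⟨s, hs1, hs2⟩ := hall x h
    exact hs2 (hx s hs1)
  have hle : B.orthogonal S ≤ B.orthogonal (B.orthogonal S) := fun x hx y hy => by
    have h := hT _ ((B.orthogonal S).add_mem hx hy)
    rw [hs.self_add, hT x hx, hT y hy, zero_add, zero_add, mul_eq_zero, or_iff_right hs.two', hs.symm] at h
    exact h
  rw [LinearMap.BilinForm.orthogonal_orthogonal hs.nondeg (fun a b h => (hs.symm b a).trans h)] at hle
  obtain ⟨x, hx0, hx⟩ := hs.exists_perp_ne_zero hlt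
  exact hx0 (hS x (hle hx) hx)

omit [Fintype F] [FiniteDimensional F K] in
/-- An anisotropic vector perpendicular to an orthogonal anisotropic pair. -/
theorem Setup.exists_aniso_perp_pair {p q : V} (hp : B p p ≠ 0) (hq : B q q ≠ 0) (hpq : B p q = 0) :
    ∃ x, B x x ≠ 0 ∧ B p x = 0 ∧ B q x = 0 := by
  obtain ⟨x, hx, hx'⟩ := hs.exists_aniso_perp (S := Submodule.span K {p, q}) (fun x hx h => by
    obtain ⟨a, b, rfl⟩ := Submodule.mem_span_pair.1 hx
    have h1 := h p (Submodule.subset_span (by simp))
    have h2 := h q (Submodule.subset_span (by simp))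
    simp [hpq, hs.symm q p, hp] at h1
    simp [hpq, hs.symm q p, hq] at h2
    simp [h1, h2]) (by
    classical
    refine lt_of_le_of_lt ((finrank_span_le_card ({p, q} : Set V)).trans ?_) hs.rank
    simpa [Set.toFinset_insert] using Finset.card_le_two)
  exact ⟨x, hx, hx' p (Submodule.subset_span (by simp)), hx' q (Submodule.subset_span (by simp))⟩

omit [Fintype F] [FiniteDimensional F K] in
/-- An anisotropic vector perpendicular to a hyperbolic pair. -/
theorem Setup.exists_aniso_perp_hyp {u f : V} (hu : B u u = 0) (hf : B f f = 0) (huf : B u f = 1) :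
    ∃ x, B x x ≠ 0 ∧ B u x = 0 ∧ B f x = 0 := by
  obtain ⟨x, hx, hx'⟩ := hs.exists_aniso_perp (S := Submodule.span K {u, f}) (fun x hx h => by
    obtain ⟨a, b, rfl⟩ := Submodule.mem_span_pair.1 hx
    have h1 := h u (Submodule.subset_span (by simp))
    have h2 := h f (Submodule.subset_span (by simp))
    simp [hu, huf] at h1
    simp [hf, huf, hs.symm f u] at h2
    simp [h1, h2]) (by
    classical
    refine lt_of_le_of_lt ((finrank_span_le_card ({u, f} : Set V)).trans ?_) hs.rank
    simpa [Set.toFinset_insert] using Finset.card_le_two)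
  exact ⟨x, hx, hx' u (Submodule.subset_span (by simp)), hx' f (Submodule.subset_span (by simp))⟩

omit [Fintype F] [FiniteDimensional F K] in
theorem Setup.exists_aniso_perp_three {u f y : V} (hu : B u u = 0) (hf : B f f = 0) (huf : B u f = 1)
    (hy : B y y ≠ 0) (huy : B u y = 0) (hfy : B f y = 0) (h4 : 4 ≤ finrank K V) :
    ∃ x, B x x ≠ 0 ∧ B u x = 0 ∧ B f x = 0 ∧ B y x = 0 := by
  obtain ⟨x, hx, hx'⟩ := hs.exists_aniso_perp (S := Submodule.span K {u, f, y}) (fun x hx h => by
    obtain ⟨a, b, c, rfl⟩ := Submodule.mem_span_triple.1 hx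
    have h1 := h u (Submodule.subset_span (by simp))
    have h2 := h f (Submodule.subset_span (by simp))
    have h3 := h y (Submodule.subset_span (by simp))
    simp [hu, huf, huy] at h1
    simp [hf, huf, hfy, hs.symm f u] at h2
    simp [hy, huy, hfy, hs.symm y u, hs.symm y f] at h3
    simp [h1, h2, h3]) (by
    classical
    refine lt_of_le_of_lt ((finrank_span_le_card ({u, f, y} : Set V)).trans ?_) h4
    simpa [Set.toFinset_insert] using Finset.card_le_three)
  exact ⟨x, hx, hx' u (Submodule.subset_span (by simp)), hx' f (Submodule.subset_span (by simp)),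
    hx' y (Submodule.subset_span (by simp))⟩

theorem Setup.exists_singular [Finite K] : ∃ u : V, u ≠ 0 ∧ B u u = 0 := by
  obtain ⟨u, hu, hu'⟩ := CfsgLib.Known.QuadClassify.exists_singular (LinearMap.BilinMap.toQuadraticMap B) hs.rank
  exact ⟨u, hu, hu'⟩

omit [Fintype F] [FiniteDimensional F K] [FiniteDimensional K V] in
/-- A two-dimensional anisotropic frame takes every value. -/
theorem Setup.exists_value [Finite K] {p q : V} (hp : B p p ≠ 0) (hq : B q q ≠ 0) (hpq : B p q = 0) (c : K) :
    ∃ a b : K, B (a • p + b • q) (a • p + b • q) = c := by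
  obtain ⟨a, b, hab⟩ := CfsgLib.Classical.Quad.exists_sum_two_squares hs.two' hp hq c
  refine ⟨a, b, ?_⟩
  simp [hpq, hs.symm q p]
  linear_combination hab

/-- The Siegel map of `u` and `y`. -/
def siegelMap (B : BilinForm K V) (u y : V) : V →ₗ[K] V :=
  LinearMap.id + (B.flip y).smulRight u - (B.flip u).smulRight y - ((B y y / 2) • B.flip u).smulRight u

omit hs [Field F] [Fintype F] [Algebra F K] [Module F V] [IsScalarTower F K V] [FiniteDimensional F K]
  [FiniteDimensional K V] in
theorem siegelMap_apply (u y x : V) :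
    siegelMap B u y x = x + B x y • u - B x u • y - (B y y / 2 * B x u) • u := by
  simp [siegelMap]

omit [Fintype F] [FiniteDimensional F K] [FiniteDimensional K V] in
/-- Siegel elements lie in `X`. -/
theorem Setup.siegel_mem {u y : V} (hu : B u u = 0) (huy : B u y = 0) :
    ∃ g ∈ X, ∀ x, g x = siegelMap B u y x := by
  have h2 := hs.two'
  have hyu : B y u = 0 := by rw [hs.symm, huy]
  have hcomp : ∀ s t : K, ∀ x, siegelMap B u (s • y) (siegelMap B u (t • y) x) = siegelMap B u ((s + t) • y) x := by
    intro s t x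
    simp only [siegelMap_apply, map_smul, map_add, map_sub, LinearMap.smul_apply, LinearMap.add_apply,
      LinearMap.sub_apply, smul_eq_mul, hu, huy, hyu]
    match_scalars <;> field_simp <;> ring
  have h0 : ∀ x, siegelMap B u (0 : V) x = x := fun x => by simp [siegelMap_apply]
  let g : V ≃ₗ[K] V := LinearEquiv.ofLinear (siegelMap B u ((1 / 2 : K) • y)) (siegelMap B u ((-1 / 2 : K) • y))
    (LinearMap.ext fun x => by
      rw [LinearMap.comp_apply, hcomp, show (1 / 2 + -1 / 2 : K) = 0 by ring, zero_smul, h0]; rfl)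
    (LinearMap.ext fun x => by
      rw [LinearMap.comp_apply, hcomp, show (-1 / 2 + 1 / 2 : K) = 0 by ring, zero_smul, h0]; rfl)
  refine ⟨_, hs.sq g fun x z => ?_, fun x => ?_⟩
  · show B (siegelMap B u _ x) (siegelMap B u _ z) = B x z
    simp only [siegelMap_apply, map_smul, map_add, map_sub, LinearMap.smul_apply, LinearMap.add_apply,
      LinearMap.sub_apply, smul_eq_mul, hu, huy, hyu, hs.symm u z, hs.symm y z]
    field_simp
    ring
  · show siegelMap B u _ (siegelMap B u _ x) = _
    rw [hcomp, show (1 / 2 + 1 / 2 : K) = 1 by field_simp; norm_num, one_smul]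

/-- The map scaling a hyperbolic pair. -/
def torusMap (B : BilinForm K V) (u f : V) (c : K) : V →ₗ[K] V :=
  LinearMap.id + ((c - 1) • B.flip f).smulRight u + ((c⁻¹ - 1) • B.flip u).smulRight f

omit hs [Field F] [Fintype F] [Algebra F K] [Module F V] [IsScalarTower F K V] [FiniteDimensional F K]
  [FiniteDimensional K V] in
theorem torusMap_apply (u f : V) (c : K) (x : V) :
    torusMap B u f c x = x + ((c - 1) * B x f) • u + ((c⁻¹ - 1) * B x u) • f := by
  simp [torusMap]

omit [Fintype F] [FiniteDimensional F K] [FiniteDimensional K V] in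
/-- Squares of torus elements lie in `X`. -/
theorem Setup.torus_mem {u f : V} (hu : B u u = 0) (hf : B f f = 0) (huf : B u f = 1) {c : K} (hc : c ≠ 0) :
    ∃ g ∈ X, ∀ x, g x = torusMap B u f (c * c) x := by
  have hfu : B f u = 1 := by rw [hs.symm, huf]
  have hcomp : ∀ s t : K, s ≠ 0 → t ≠ 0 → ∀ x, torusMap B u f s (torusMap B u f t x) = torusMap B u f (s * t) x := by
    intro s t hs0 ht0 x
    simp only [torusMap_apply, map_smul, map_add, LinearMap.smul_apply, LinearMap.add_apply, smul_eq_mul, hu, hf,
      huf, hfu]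
    match_scalars <;> field_simp <;> ring
  have h1 : ∀ x, torusMap B u f (1 : K) x = x := fun x => by simp [torusMap_apply]
  let g : V ≃ₗ[K] V := LinearEquiv.ofLinear (torusMap B u f c) (torusMap B u f c⁻¹)
    (LinearMap.ext fun x => by
      rw [LinearMap.comp_apply, hcomp _ _ hc (inv_ne_zero hc), mul_inv_cancel₀ hc, h1]; rfl)
    (LinearMap.ext fun x => by
      rw [LinearMap.comp_apply, hcomp _ _ (inv_ne_zero hc) hc, inv_mul_cancel₀ hc, h1]; rfl)
  refine ⟨_, hs.sq g fun x z => ?_, fun x => ?_⟩
  · show B (torusMap B u f c x) (torusMap B u f c z) = B x z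
    simp only [torusMap_apply, map_smul, map_add, LinearMap.smul_apply, LinearMap.add_apply, smul_eq_mul, hu, hf,
      huf, hfu, hs.symm u z, hs.symm f z]
    field_simp
    ring
  · show torusMap B u f c (torusMap B u f c x) = _
    exact hcomp c c hc hc x

/-- The map negating an orthogonal pair. -/
def negPairMap (B : BilinForm K V) (p q : V) : V →ₗ[K] V :=
  LinearMap.id - ((2 / B p p) • B.flip p).smulRight p - ((2 / B q q) • B.flip q).smulRight q

omit hs [Field F] [Fintype F] [Algebra F K] [Module F V] [IsScalarTower F K V] [FiniteDimensional F K]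
  [FiniteDimensional K V] in
theorem negPairMap_apply (p q x : V) :
    negPairMap B p q x = x - (2 / B p p * B x p) • p - (2 / B q q * B x q) • q := by
  simp [negPairMap]

omit [Fintype F] [FiniteDimensional F K] [FiniteDimensional K V] in
/-- The negation of an orthogonal pair of norms in one square class lies in `X`. -/
theorem Setup.negPair_mem {p q : V} (hp : B p p ≠ 0) (hpq : B p q = 0) {t : K} (ht : t ≠ 0)
    (hq : B q q = t * t * B p p) : ∃ g ∈ X, ∀ x, g x = negPairMap B p q x := by
  have h2 := hs.two'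
  have hqp : B q p = 0 := by rw [hs.symm, hpq]
  have hq0 : B q q ≠ 0 := by rw [hq]; exact mul_ne_zero (mul_ne_zero ht ht) hp
  let J : V →ₗ[K] V := LinearMap.id + ((B p p)⁻¹ • B.flip p).smulRight (t⁻¹ • q - p) +
    ((B q q)⁻¹ • B.flip q).smulRight (-(t • p) - q)
  let J' : V →ₗ[K] V := LinearMap.id + ((B p p)⁻¹ • B.flip p).smulRight (-(t⁻¹ • q) - p) +
    ((B q q)⁻¹ • B.flip q).smulRight (t • p - q)
  let g : V ≃ₗ[K] V := LinearEquiv.ofLinear J J'
    (LinearMap.ext fun x => by
      simp only [J, J', LinearMap.comp_apply, LinearMap.add_apply, LinearMap.id_apply, LinearMap.smulRight_apply,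
        LinearMap.smul_apply, LinearMap.BilinForm.flip_apply, map_add, map_sub, map_neg, map_smul, LinearMap.sub_apply,
        LinearMap.neg_apply, smul_eq_mul, hpq, hqp, hq]
      match_scalars <;> field_simp <;> ring)
    (LinearMap.ext fun x => by
      simp only [J, J', LinearMap.comp_apply, LinearMap.add_apply, LinearMap.id_apply, LinearMap.smulRight_apply,
        LinearMap.smul_apply, LinearMap.BilinForm.flip_apply, map_add, map_sub, map_neg, map_smul, LinearMap.sub_apply,
        LinearMap.neg_apply, smul_eq_mul, hpq, hqp, hq]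
      match_scalars <;> field_simp <;> ring)
  refine ⟨_, hs.sq g fun x z => ?_, fun x => ?_⟩
  · show B (J x) (J z) = B x z
    simp only [J, LinearMap.add_apply, LinearMap.id_apply, LinearMap.smulRight_apply, LinearMap.smul_apply,
      LinearMap.BilinForm.flip_apply, map_add, map_sub, map_neg, map_smul, LinearMap.sub_apply, LinearMap.neg_apply,
      smul_eq_mul, hpq, hqp, hq, hs.symm p z, hs.symm q z]
    field_simp
    ring
  · show J (J x) = _
    simp only [J, negPairMap_apply, LinearMap.add_apply, LinearMap.id_apply, LinearMap.smulRight_apply,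
      LinearMap.smul_apply, LinearMap.BilinForm.flip_apply, map_add, map_sub, map_neg, map_smul, LinearMap.sub_apply,
      LinearMap.neg_apply, smul_eq_mul, hpq, hqp, hq]
    match_scalars <;> field_simp <;> ring

/-- The reflection in an anisotropic vector. -/
def reflK (B : BilinForm K V) (p : V) : V →ₗ[K] V :=
  LinearMap.id - ((2 / B p p) • B.flip p).smulRight p

omit hs [Field F] [Fintype F] [Algebra F K] [Module F V] [IsScalarTower F K V] [FiniteDimensional F K]
  [FiniteDimensional K V] in
theorem reflK_apply (p x : V) : reflK B p x = x - (2 / B p p * B x p) • p := by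
  simp [reflK]

omit [Fintype F] [FiniteDimensional F K] [FiniteDimensional K V] in
/-- Squares of rotations lie in `X`. -/
theorem Setup.rot_mem {p q : V} (hp : B p p ≠ 0) (hq : B q q ≠ 0) :
    ∃ g ∈ X, ∀ x, g x = reflK B q (reflK B p (reflK B q (reflK B p x))) := by
  have hinv : ∀ p : V, B p p ≠ 0 → ∀ x, reflK B p (reflK B p x) = x := fun p hp x => by
    simp only [reflK_apply, map_sub, map_smul, LinearMap.sub_apply, LinearMap.smul_apply, smul_eq_mul]
    match_scalars <;> field_simp <;> ring
  have hiso : ∀ p : V, B p p ≠ 0 → ∀ x z, B (reflK B p x) (reflK B p z) = B x z := fun p hp x z => by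
    simp only [reflK_apply, map_sub, map_smul, LinearMap.sub_apply, LinearMap.smul_apply, smul_eq_mul, hs.symm p z]
    field_simp
    ring
  let g : V ≃ₗ[K] V := LinearEquiv.ofLinear ((reflK B q).comp (reflK B p)) ((reflK B p).comp (reflK B q))
    (LinearMap.ext fun x => by simp [hinv p hp, hinv q hq]) (LinearMap.ext fun x => by simp [hinv p hp, hinv q hq])
  refine ⟨_, hs.sq g fun x z => ?_, fun x => rfl⟩
  show B (reflK B q (reflK B p x)) (reflK B q (reflK B p z)) = B x z
  rw [hiso q hq, hiso p hp]

end CfsgLib.Geo.OrthExt
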