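/-
An element stabilising a singular line without being semilinear on it gives all root elements of the line.
-/
import Cfsg.Agent.Lib.Geo.OrthExt.Setup
import Cfsg.Agent.Lib.Geo.OrthExt.Galois

set_option autoImplicit false

namespace CfsgLib.Geo.OrthExt

open Module LinearMap CfsgLib.Geo.FieldExt
open LinearMap (BilinForm)

variable {F K V : Type*} [Field F] [Fintype F] [Field K] [Algebra F K] [AddCommGroup V] [Module F V] [Module K V]
  [IsScalarTower F K V] [FiniteDimensional F K] [FiniteDimensional K V]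

/-- `x` is semilinear on the line of `u`. -/
def SemiAt (x : V ≃ₗ[F] V) (u : V) : Prop := ∃ σ : K →ₐ[F] K, ∀ k : K, x (k • u) = σ k • x u

/-- Every stabiliser of a singular line acts semilinearly on it. -/
def LinesSemi (B : BilinForm K V) (X : Subgroup (V ≃ₗ[F] V)) : Prop :=
  ∀ u : V, u ≠ 0 → B u u = 0 → ∀ x ∈ X, (∀ k : K, x (k • u) ∈ line (F := F) K u) → SemiAt (K := K) x u

/-- The long root map of `a` and `b`. -/
def tMap (B : BilinForm K V) (μ : K →ₗ[F] F) (a b : V) : V →ₗ[F] V :=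
  (μ.comp ((B.flip b).restrictScalars F)).smulRight a - (μ.comp ((B.flip a).restrictScalars F)).smulRight b

omit [Fintype F] [FiniteDimensional F K] [FiniteDimensional K V] in
@[simp] theorem tMap_apply (B : BilinForm K V) (μ : K →ₗ[F] F) (a b z : V) :
    tMap B μ a b z = μ (B z b) • a - μ (B z a) • b := by
  simp [tMap]

/-- All root elements of the line of `u` lie in `X`. -/
def Rooted (B : BilinForm K V) (μ : K →ₗ[F] F) (X : Subgroup (V ≃ₗ[F] V)) (u : V) : Prop :=
  ∀ a ∈ line (F := F) K u, ∀ b ∈ line (F := F) K u, U X (tMap B μ a b)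

/-- The coefficient of an element fixing the line of `u` and moving its perp along it. -/
def DMem (B : BilinForm K V) (X : Subgroup (V ≃ₗ[F] V)) (u : V) (φ : V →ₗ[F] K) : Prop :=
  ∃ x ∈ X, (∀ k : K, x (k • u) = k • u) ∧ ∀ z, B z u = 0 → x z = z + φ z • u

variable {B : BilinForm K V} {μ : K →ₗ[F] F} {X : Subgroup (V ≃ₗ[F] V)} (hs : Setup B μ X) {u : V}
include hs

omit [Fintype F] [FiniteDimensional F K] [FiniteDimensional K V] in
theorem Setup.dmem_line (hu0 : u ≠ 0) (hu : B u u = 0) {φ : V →ₗ[F] K} {x : V ≃ₗ[F] V}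
    (hx : ∀ k : K, x (k • u) = k • u) (hz : ∀ z, B z u = 0 → x z = z + φ z • u) (k : K) : φ (k • u) = 0 := by
  have h := hz (k • u) (by simp [hu])
  rw [hx, left_eq_add, smul_eq_zero] at h
  exact h.resolve_right hu0

omit [Fintype F] [FiniteDimensional F K] [FiniteDimensional K V] in
theorem Setup.dmem_add (hu0 : u ≠ 0) (hu : B u u = 0) {φ φ' : V →ₗ[F] K} (h : DMem B X u φ) (h' : DMem B X u φ') :
    DMem B X u (φ + φ') := by
  obtain ⟨x, hx, hxu, hxz⟩ := h
  obtain ⟨y, hy, hyu, hyz⟩ := h'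
  refine ⟨x * y, X.mul_mem hx hy, fun k => ?_, fun z hz => ?_⟩
  · rw [LinearEquiv.mul_apply, hyu, hxu]
  · rw [LinearEquiv.mul_apply, hyz z hz, map_add, hxz z hz, hxu, LinearMap.add_apply, add_smul]
    abel

omit [Fintype F] [FiniteDimensional F K] [FiniteDimensional K V] in
theorem Setup.dmem_zero : DMem B X u (0 : V →ₗ[F] K) :=
  ⟨1, X.one_mem, fun _ => rfl, fun z _ => by simp⟩

omit [Fintype F] [FiniteDimensional F K] [FiniteDimensional K V] in
/-- Conjugation by a stabiliser of the line. -/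
theorem Setup.dmem_conj (hu0 : u ≠ 0) {g : V ≃ₗ[F] V} (hg : g ∈ X) {γ : K ≃ₗ[F] K}
    (hγ : ∀ k : K, g (k • u) = γ k • u) {φ : V →ₗ[F] K} (h : DMem B X u φ) :
    DMem B X u ((γ : K →ₗ[F] K).comp (φ.comp (g.symm : V →ₗ[F] V))) := by
  obtain ⟨x, hx, hxu, hxz⟩ := h
  have hγ' : ∀ k : K, g.symm (k • u) = γ.symm k • u := fun k => by
    rw [LinearEquiv.symm_apply_eq, hγ, LinearEquiv.apply_symm_apply]
  refine ⟨g * x * g⁻¹, X.mul_mem (X.mul_mem hg hx) (X.inv_mem hg), fun k => ?_, fun z hz => ?_⟩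
  · show g (x (g.symm (k • u))) = _
    rw [hγ', hxu, hγ, LinearEquiv.apply_symm_apply]
  · have hz' : B (g.symm z) u = 0 := by
      rw [hs.symm]
      refine hs.eq_zero_of_line fun k => ?_
      rw [← hs.preserves g hg, g.apply_symm_apply, hγ]
      simp [hs.symm u z, hz]
    show g (x (g.symm z)) = _
    rw [hxz _ hz', map_add, g.apply_symm_apply, hγ]
    rfl

omit [FiniteDimensional K V] in
theorem Setup.dmem_mulL [Finite K] (hu0 : u ≠ 0) (hu : B u u = 0) (c : K) {φ : V →ₗ[F] K} (h : DMem B X u φ) :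
    DMem B X u ((mulL c).comp φ) := by
  obtain ⟨f, huf, hff⟩ := hs.exists_partner hu0 hu
  have hsq : ∀ d : K, DMem B X u ((mulL (d * d)).comp φ) := by
    intro d
    rcases eq_or_ne d 0 with rfl | hd
    · convert hs.dmem_zero (u := u) using 1
      ext z
      simp
    obtain ⟨t, ht, ht'⟩ := hs.torus_mem hu hff huf hd
    have hd2 : d * d ≠ 0 := mul_ne_zero hd hd
    have htu : ∀ k : K, t (k • u) = (d * d * k) • u := fun k => by
      rw [ht', torusMap_apply]
      simp only [map_smul, LinearMap.smul_apply, huf, hu, smul_eq_mul]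
      match_scalars <;> ring
    have hmove : ∀ z, B z u = 0 → ∃ e : K, t z = z + e • u := fun z hz =>
      ⟨(d * d - 1) * B z f, by rw [ht', torusMap_apply, hz]; simp⟩
    obtain ⟨x, hx, hxu, hxz⟩ := h
    have htu' : ∀ k : K, t.symm (k • u) = ((d * d)⁻¹ * k) • u := fun k => by
      rw [LinearEquiv.symm_apply_eq, htu, mul_inv_cancel_left₀ hd2]
    refine ⟨t * x * t⁻¹, X.mul_mem (X.mul_mem ht hx) (X.inv_mem ht), fun k => ?_, fun z hz => ?_⟩
    · show t (x (t.symm (k • u))) = _
      rw [htu', hxu, htu, mul_inv_cancel_left₀ hd2]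
    · obtain ⟨e, he⟩ := hmove z hz
      have hz' : t.symm z = z - ((d * d)⁻¹ * e) • u := by
        rw [LinearEquiv.symm_apply_eq, map_sub, he, htu, mul_inv_cancel_left₀ hd2, add_sub_cancel_right]
      show t (x (t.symm z)) = _
      rw [hz', hxz _ (by simp [hz, hu]), map_sub, hs.dmem_line hu0 hu hxu hxz, sub_zero, map_add, map_sub, he, htu,
        htu, LinearMap.comp_apply, mulL_apply, mul_inv_cancel_left₀ hd2]
      abel
  obtain ⟨a, b, hab⟩ := CfsgLib.Classical.Quad.exists_sum_two_squares hs.two' one_ne_zero one_ne_zero c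
  convert hs.dmem_add hu0 hu (hsq a) (hsq b) using 1
  ext z
  simp only [LinearMap.add_apply, LinearMap.comp_apply, mulL_apply, ← hab]
  ring

omit [Fintype F] [FiniteDimensional F K] [FiniteDimensional K V] in
theorem Setup.dmem_siegel (hu : B u u = 0) {y : V} (hy : B u y = 0) :
    DMem B X u ((B.flip y).restrictScalars F) := by
  obtain ⟨g, hg, hg'⟩ := hs.siegel_mem hu hy
  exact ⟨g, hg, fun k => by simp [hg', siegelMap_apply, hu, hy], fun z hz => by simp [hg', siegelMap_apply, hz]⟩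

/-- Non-semilinear action on a line gives every coefficient. -/
theorem Setup.dmem_all (hu0 : u ≠ 0) (hu : B u u = 0) {g : V ≃ₗ[F] V} (hg : g ∈ X)
    (hgl : ∀ k : K, g (k • u) ∈ line (F := F) K u) (hns : ¬ SemiAt (K := K) g u) (T : K →ₗ[F] K)
    {φ : V →ₗ[F] K} (h : DMem B X u φ) : DMem B X u (T.comp φ) := by
  classical
  haveI : Finite K := Module.finite_of_finite F
  haveI : Module.Finite F V := Module.Finite.trans K V
  let A : Subalgebra F (Module.End F K) :=
    { carrier := {T | ∀ φ, DMem B X u φ → DMem B X u (T.comp φ)}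
      mul_mem' := fun {S T} hS hT φ hφ => hS _ (hT φ hφ)
      add_mem' := fun {S T} hS hT φ hφ => by
        convert hs.dmem_add hu0 hu (hS φ hφ) (hT φ hφ) using 1
        exact LinearMap.add_comp _ _ _
      algebraMap_mem' := fun s φ hφ => by
        convert hs.dmem_mulL hu0 hu (algebraMap F K s) hφ using 1
        ext z
        simp [Algebra.smul_def] }
  have hK : ∀ c : K, mulL c ∈ A := fun c φ hφ => hs.dmem_mulL hu0 hu c hφ
  -- the action on the line
  choose γ₀ hγ₀ using fun k => mem_line.1 (hgl k)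
  have huniq : ∀ {a b : K}, a • u = b • u → a = b := fun h => smul_left_injective K hu0 h
  let γ₁ : K →ₗ[F] K :=
    { toFun := γ₀
      map_add' := fun a b => huniq (by rw [add_smul, hγ₀, hγ₀, hγ₀, add_smul, map_add])
      map_smul' := fun s a => huniq (by
        rw [hγ₀, RingHom.id_apply, smul_assoc, smul_assoc, map_smul, hγ₀]) }
  have hγ₁inj : Function.Injective γ₁ := fun a b e => huniq (g.injective (by
    rw [← hγ₀, ← hγ₀]; exact congrArg (· • u) e))
  let γ : K ≃ₗ[F] K := LinearEquiv.ofInjectiveEndo γ₁ hγ₁inj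
  have hγ : ∀ k : K, g (k • u) = γ k • u := fun k => (hγ₀ k).symm
  have hγ' : ∀ k : K, g.symm (k • u) = γ.symm k • u := fun k => by
    rw [LinearEquiv.symm_apply_eq, hγ, LinearEquiv.apply_symm_apply]
  have hconj : ∀ T ∈ A, (γ : K →ₗ[F] K).comp (T.comp (γ.symm : K →ₗ[F] K)) ∈ A := by
    intro T hT φ hφ
    have h1 := hs.dmem_conj hu0 hg hγ (hT _ (hs.dmem_conj hu0 (X.inv_mem hg) (γ := γ.symm) hγ' hφ))
    convert h1 using 1
    ext z
    simp only [LinearMap.comp_apply, LinearEquiv.coe_coe]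
    exact congrArg γ (congrArg T (congrArg γ.symm (congrArg φ (g.apply_symm_apply z).symm)))
  -- an element outside the field
  obtain ⟨c, hc⟩ : ∃ c : K, ∀ d : K, (γ : K →ₗ[F] K).comp ((mulL c).comp (γ.symm : K →ₗ[F] K)) ≠ mulL d := by
    by_contra! hall
    choose σ hσ using hall
    have hσ' : ∀ c k, γ (c * k) = σ c * γ k := fun c k => by
      have := congrFun (congrArg DFunLike.coe (hσ c)) (γ k)
      simpa using this
    have hone : γ 1 ≠ 0 := fun e => one_ne_zero (γ.map_eq_zero_iff.1 e)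
    have hmul : ∀ a b, σ (a * b) = σ a * σ b := fun a b => mul_right_cancel₀ hone (by
      rw [← hσ', mul_assoc, mul_assoc, ← hσ', ← hσ'])
    let σA : K →ₐ[F] K :=
      { toFun := σ
        map_one' := mul_right_cancel₀ hone (by rw [← hσ', one_mul, one_mul])
        map_mul' := hmul
        map_zero' := mul_right_cancel₀ hone (by rw [← hσ', zero_mul, map_zero, zero_mul])
        map_add' := fun a b => mul_right_cancel₀ hone (by rw [add_mul, ← hσ', ← hσ', ← hσ', add_mul, map_add])
        commutes' := fun s => mul_right_cancel₀ hone (by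
          rw [← hσ', ← Algebra.smul_def, ← Algebra.smul_def, map_smul]) }
    refine hns ⟨σA, fun k => ?_⟩
    have h1 := hσ' k 1
    rw [mul_one] at h1
    have h2 := hγ 1
    rw [one_smul] at h2
    rw [hγ, h1, h2, smul_smul]
    rfl
  set T₀ := (γ : K →ₗ[F] K).comp ((mulL c).comp (γ.symm : K →ₗ[F] K))
  have hT₀ : T₀ ∈ A := hconj _ (hK c)
  -- density
  haveI : IsSimpleModule A K := by
    rw [isSimpleModule_iff]
    refine { eq_bot_or_eq_top := fun W => ?_ }
    rcases eq_or_ne W ⊥ with e | e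
    · exact Or.inl e
    · obtain ⟨w, hw, hw0⟩ := Submodule.exists_mem_ne_zero_of_ne_bot e
      refine Or.inr (eq_top_iff.2 fun x _ => ?_)
      have h1 := W.smul_mem (⟨mulL (x / w), hK _⟩ : A) hw
      have e1 : (⟨mulL (x / w), hK _⟩ : A) • w = x := div_mul_cancel₀ x hw0
      rwa [e1] at h1
  have hscal : ∀ φ' : Module.End A K, ∃ s : F, ∀ x, φ' x = s • x := by
    intro φ'
    have hm : ∀ k x, φ' (k * x) = k * φ' x := fun k x => φ'.map_smul (⟨mulL k, hK k⟩ : A) x
    set e := φ' 1
    have hx : ∀ x, φ' x = x * e := fun x => by rw [← hm, mul_one]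
    suffices e ∈ Set.range (algebraMap F K) by
      obtain ⟨s, hs'⟩ := this
      exact ⟨s, fun x => by rw [hx, ← hs', Algebra.smul_def, mul_comm]⟩
    by_contra he
    have hcomm : ∀ x, T₀ (e * x) = e * T₀ x := fun x => by
      have h1 : φ' (T₀ x) = T₀ (φ' x) := φ'.map_smul (⟨T₀, hT₀⟩ : A) x
      rw [hx, hx, mul_comm, mul_comm x] at h1
      exact h1.symm
    let S : Subalgebra F K :=
      { carrier := {d | ∀ x, T₀ (d * x) = d * T₀ x}
        mul_mem' := fun {a b} ha hb x => by rw [mul_assoc, ha, hb, mul_assoc]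
        add_mem' := fun {a b} ha hb x => by rw [add_mul, map_add, ha, hb, add_mul]
        algebraMap_mem' := fun a x => by rw [← Algebra.smul_def, map_smul, Algebra.smul_def] }
    haveI := Subalgebra.isSimpleOrder_of_finrank_prime F K hs.prime
    rcases eq_bot_or_eq_top S with eS | eS
    · exact he (Algebra.mem_bot.1 (eS ▸ hcomm : e ∈ (⊥ : Subalgebra F K)))
    · refine hc (T₀ 1) (LinearMap.ext fun x => ?_)
      have h1 : x ∈ S := eS ▸ Algebra.mem_top
      simpa [mul_comm] using h1 1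
  let Te : Module.End (Module.End A K) K :=
    { toFun := T
      map_add' := T.map_add
      map_smul' := fun φ' x => by
        obtain ⟨s, hs'⟩ := hscal φ'
        show T (φ' x) = φ' (T x)
        rw [hs', hs', map_smul] }
  let b := Module.finBasis F K
  obtain ⟨a, ha⟩ := jacobson_density (R := A) (M := K) Te (Finset.univ.image b)
  have hTa : T = (a : Module.End F K) := b.ext fun i => ha (b i) (Finset.mem_image_of_mem _ (Finset.mem_univ i))
  rw [hTa]
  exact a.2 φ h

/-- Non-semilinear action on a line gives all its root elements. -/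
theorem Setup.rooted_of_not_semi (hu0 : u ≠ 0) (hu : B u u = 0) {g : V ≃ₗ[F] V} (hg : g ∈ X)
    (hgl : ∀ k : K, g (k • u) ∈ line (F := F) K u) (hns : ¬ SemiAt (K := K) g u) : Rooted B μ X u := by
  obtain ⟨f, huf, hff⟩ := hs.exists_partner hu0 hu
  obtain ⟨y, hyy, huy, -⟩ := hs.exists_aniso_perp_hyp hu hff huf
  set m₁ := y with hm₁
  set m₂ := (B y y)⁻¹ • y with hm₂
  have hm : μ (B m₁ m₂) = 1 := by rw [hm₁, hm₂, map_smul, smul_eq_mul, inv_mul_cancel₀ hyy, hs.mu_one]
  have hum₂ : B u m₂ = 0 := by rw [hm₂, map_smul, huy, smul_zero]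
  have hmake : ∀ (l : K) (m : V), B u m = 0 →
      DMem B X u ((μ.smulRight l).comp ((B.flip m).restrictScalars F)) :=
    fun l m hm => hs.dmem_all hu0 hu hg hgl hns (μ.smulRight l) (hs.dmem_siegel hu hm)
  intro a ha b hb
  obtain ⟨l₂, rfl⟩ := mem_line.1 ha
  obtain ⟨l₁, rfl⟩ := mem_line.1 hb
  obtain ⟨x, hx, hxu, hxz⟩ := hmake l₁ m₁ huy
  obtain ⟨x', hx', hxu', hxz'⟩ := hmake l₂ m₂ hum₂
  have hperp : ∀ (x : V ≃ₗ[F] V), x ∈ X → (∀ k : K, x (k • u) = k • u) → ∀ z, B (x z - z) u = 0 := by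
    intro x hx hxu z
    rw [hs.symm]
    refine hs.eq_zero_of_line fun k => ?_
    rw [map_sub, map_sub]
    conv_lhs => arg 1; rw [← hxu k]
    rw [hs.preserves x hx, sub_self]
  have hval : ∀ (x : V ≃ₗ[F] V), x ∈ X → (∀ k : K, x (k • u) = k • u) → ∀ (m : V) (e : K), B u m = 0 →
      x m = m + e • u → ∀ w, μ (B (x w - w) m) = -μ (B w (e • u)) := by
    intro x hx hxu m e hum hxm w
    have h1 := hs.preserves x hx w m
    rw [hxm, show x w = w + (x w - w) by abel] at h1
    have hp := hperp x hx hxu w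
    simp only [map_add, LinearMap.add_apply, map_smul, LinearMap.smul_apply, hp, smul_zero, map_zero,
      add_zero] at h1 ⊢
    linear_combination h1
  have e₂ : x' m₁ = m₁ + l₂ • u := by
    rw [hxz' m₁ (by rw [hs.symm, huy]), LinearMap.comp_apply, LinearMap.smulRight_apply]
    simp [hm]
  have e₁ : x m₂ = m₂ + l₁ • u := by
    rw [hxz m₂ (by rw [hs.symm, hum₂]), LinearMap.comp_apply, LinearMap.smulRight_apply]
    simp [hs.symm m₂ m₁, hm]
  refine ⟨x * x' * x⁻¹ * x'⁻¹, X.mul_mem (X.mul_mem (X.mul_mem hx hx') (X.inv_mem hx)) (X.inv_mem hx'),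
    fun z => ?_⟩
  show x (x' (x.symm (x'.symm z))) = _
  obtain ⟨w, rfl⟩ : ∃ w, x' (x w) = z := ⟨x.symm (x'.symm z), by simp⟩
  rw [LinearEquiv.symm_apply_apply, LinearEquiv.symm_apply_apply]
  set p := x w - w with hp
  set p' := x' w - w with hp'
  have hpu : B p u = 0 := hperp x hx hxu w
  have hpu' : B p' u = 0 := hperp x' hx' hxu' w
  have h1 : x (x' w) = w + p + p' + μ (B p' m₁) • l₁ • u := by
    conv_lhs => rw [show x' w = w + p' by rw [hp']; abel]
    rw [map_add, hxz p' hpu', LinearMap.comp_apply, LinearMap.smulRight_apply, smul_assoc, hp]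
    simp only [LinearMap.restrictScalars_apply, LinearMap.BilinForm.flip_apply]
    abel
  have h2 : x' (x w) = w + p + p' + μ (B p m₂) • l₂ • u := by
    conv_lhs => rw [show x w = w + p by rw [hp]; abel]
    rw [map_add, hxz' p hpu, LinearMap.comp_apply, LinearMap.smulRight_apply, smul_assoc, hp']
    simp only [LinearMap.restrictScalars_apply, LinearMap.BilinForm.flip_apply]
    abel
  have hzw : ∀ k : K, μ (B (x' (x w)) (k • u)) = μ (B w (k • u)) := fun k => by
    rw [h2, ← algebraMap_smul K (μ (B p m₂)) (l₂ • u)]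
    simp [hpu, hpu', hu]
  rw [h1, hval x' hx' hxu' m₁ l₂ huy e₂ w, tMap_apply, hzw, hzw, h2, hval x hx hxu m₂ l₁ hum₂ e₁ w]
  module

end CfsgLib.Geo.OrthExt
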