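/-
Transitivity on singular lines, and semilinearity of maps preserving them.
-/
import Cfsg.Agent.Lib.Geo.OrthExt.LineStab

set_option autoImplicit false

namespace CfsgLib.Geo.OrthExt

open Module LinearMap CfsgLib.Geo.FieldExt
open LinearMap (BilinForm)

variable {F K V : Type*} [Field F] [Fintype F] [Field K] [Algebra F K] [AddCommGroup V] [Module F V] [Module K V]
  [IsScalarTower F K V] [FiniteDimensional F K] [FiniteDimensional K V]
  {B : BilinForm K V} {μ : K →ₗ[F] F} {X : Subgroup (V ≃ₗ[F] V)} (hs : Setup B μ X)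
include hs

omit [Fintype F] [FiniteDimensional F K] in
theorem Setup.exists_line_map_of_ne {u u₂ : V} (hu : B u u = 0) (hu₂ : B u₂ u₂ = 0) (hne : B u u₂ ≠ 0) :
    ∃ x ∈ X, (∀ (k : K) y, x (k • y) = k • x y) ∧ ∃ c : K, c ≠ 0 ∧ x u = c • u₂ := by
  set u' := (B u u₂)⁻¹ • u₂ with hu'
  have h1 : B u u' = 1 := by rw [hu', map_smul, smul_eq_mul, inv_mul_cancel₀ hne]
  have hu'0 : B u' u' = 0 := by simp [hu', hu₂]
  obtain ⟨y, hy, hu'y, huy⟩ := hs.exists_aniso_perp_hyp hu'0 hu (by rw [hs.symm]; exact h1)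
  have h2 := hs.two'
  obtain ⟨g₁, hg₁, hg₁'⟩ := hs.siegel_mem hu'0 hu'y
  obtain ⟨g₂, hg₂, hg₂'⟩ := hs.siegel_mem hu (y := (2 / B y y) • y) (by rw [map_smul, huy, smul_zero])
  refine ⟨g₂ * g₁, X.mul_mem hg₂ hg₁, fun k z => by simp [hg₁', hg₂'],
    -(B y y / 2) * (B u u₂)⁻¹, by simp [hy, hne, h2], ?_⟩
  rw [LinearEquiv.mul_apply, hg₁', hg₂']
  simp only [siegelMap_apply, map_add, map_sub, map_smul, LinearMap.add_apply, LinearMap.sub_apply,
    LinearMap.smul_apply, smul_eq_mul, hu, h1, hu'0, hu'y, huy, hs.symm y u, hs.symm y u', hs.symm u' u, neg_mul,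
    neg_smul, mul_zero, zero_mul, mul_one, sub_zero, zero_sub, zero_smul, add_zero, zero_add]
  rw [show (B y y / 2 * (B u u₂)⁻¹) • u₂ = (B y y / 2) • u' by rw [hu', smul_smul]]
  match_scalars <;> field_simp <;> ring

omit [Fintype F] [FiniteDimensional F K] in
/-- Transitivity on singular lines. -/
theorem Setup.exists_line_map {u u₂ : V} (hu0 : u ≠ 0) (hu : B u u = 0) (hu₂0 : u₂ ≠ 0) (hu₂ : B u₂ u₂ = 0) :
    ∃ x ∈ X, (∀ (k : K) y, x (k • y) = k • x y) ∧ ∃ c : K, c ≠ 0 ∧ x u = c • u₂ := by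
  by_cases hne : B u u₂ = 0
  swap
  · exact hs.exists_line_map_of_ne hu hu₂ hne
  obtain ⟨w, hw1, hw2, hw⟩ : ∃ w, B u w = 1 ∧ B u₂ w ≠ 0 ∧ B w w = 0 := by
    obtain ⟨f, hf, hff⟩ := hs.exists_partner hu0 hu
    by_cases h : B u₂ f = 0
    swap
    · exact ⟨f, hf, h, hff⟩
    obtain ⟨f', hf', -⟩ := hs.exists_partner hu₂0 hu₂
    set z := f + (f' - (B u f') • f) with hz
    have h1 : B u z = 1 := by simp [hz, hf]
    have h2 : B u₂ z = 1 := by simp [hz, hf', h]
    refine ⟨z + (-(B z z / 2)) • u, by simp [h1, hu], by simp [h2, hs.symm u₂ u, hne], ?_⟩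
    have := hs.two'
    rw [hs.self_add]
    simp [hs.symm z u, h1, hu]
    field_simp
    ring
  obtain ⟨x₁, hx₁, hl₁, c₁, hc₁, e₁⟩ := hs.exists_line_map_of_ne hu hw (by rw [hw1]; exact one_ne_zero)
  obtain ⟨x₂, hx₂, hl₂, c₂, hc₂, e₂⟩ := hs.exists_line_map_of_ne hw hu₂ (by rwa [hs.symm])
  refine ⟨x₂ * x₁, X.mul_mem hx₂ hx₁, fun k y => by simp [hl₁, hl₂], c₁ * c₂, mul_ne_zero hc₁ hc₂, ?_⟩
  rw [LinearEquiv.mul_apply, e₁, hl₂, e₂, smul_smul]

omit [Fintype F] [FiniteDimensional F K] in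
theorem Setup.rooted_all {u : V} (hu0 : u ≠ 0) (hu : B u u = 0) (h : Rooted B μ X u) {w : V} (hw0 : w ≠ 0)
    (hw : B w w = 0) : Rooted B μ X w := by
  obtain ⟨x, hx, hxl, c, hc, e⟩ := hs.exists_line_map hu0 hu hw0 hw
  intro a ha b hb
  obtain ⟨k, rfl⟩ := mem_line.1 ha
  obtain ⟨l, rfl⟩ := mem_line.1 hb
  have hk : ∀ k : K, x ((k / c) • u) = k • w := fun k => by rw [hxl, e, smul_smul, div_mul_cancel₀ _ hc]
  refine ((h _ (mem_line.2 ⟨k / c, rfl⟩) _ (mem_line.2 ⟨l / c, rfl⟩)).conj hx).congr fun z => ?_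
  simp only [LinearMap.comp_apply, tMap_apply, LinearEquiv.coe_coe, map_sub, LinearEquiv.map_smul]
  rw [← hs.preserves x hx (x.symm z) ((l / c) • u), ← hs.preserves x hx (x.symm z) ((k / c) • u),
    LinearEquiv.apply_symm_apply, hk, hk]

omit [Fintype F] [FiniteDimensional K V] in
/-- An image of a singular line lying in a line is a singular line. -/
theorem Setup.image_singular [Finite K] {g : V ≃ₗ[F] V} (hg : g ∈ X) {u : V} (hu0 : u ≠ 0) (hu : B u u = 0)
    (h : ∀ k : K, g (k • u) ∈ line (F := F) K (g u)) : B (g u) (g u) = 0 := by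
  choose c hc using fun k => mem_line.1 (h k)
  have hinj : Function.Injective c := fun a b e => smul_left_injective K hu0 (g.injective (by
    rw [← hc, ← hc]; exact congrArg (· • g u) e))
  refine hs.eq_zero_of_line fun d => ?_
  obtain ⟨k, rfl⟩ := Finite.injective_iff_surjective.1 hinj d
  rw [hc, hs.preserves g hg]
  simp [hu]

/-- Maps of singular lines into lines are semilinear. -/
theorem Setup.semilinear_of_lines (hL : LinesSemi B X) {g : V ≃ₗ[F] V} (hg : g ∈ X)
    (h : ∀ u : V, u ≠ 0 → B u u = 0 → ∀ k : K, g (k • u) ∈ line (F := F) K (g u)) :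
    ∃ σ : K →ₐ[F] K, ∀ (k : K) y, g (k • y) = σ k • g y := by
  haveI : Finite K := Module.finite_of_finite F
  have h2 := hs.two'
  have hsing : ∀ u : V, u ≠ 0 → B u u = 0 → B (g u) (g u) = 0 := fun u hu0 hu =>
    hs.image_singular hg hu0 hu (h u hu0 hu)
  have hex : ∀ u : V, u ≠ 0 → B u u = 0 → ∃ σ : K →ₐ[F] K, ∀ k : K, g (k • u) = σ k • g u := by
    intro u hu0 hu
    obtain ⟨x, hx, hxl, c, hc, e⟩ := hs.exists_line_map (g.map_ne_zero_iff.2 hu0) (hsing u hu0 hu) hu0 hu
    obtain ⟨σ, hσ⟩ := hL u hu0 hu (x * g) (X.mul_mem hx hg) fun k => by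
      obtain ⟨d, hd⟩ := mem_line.1 (h u hu0 hu k)
      rw [LinearEquiv.mul_apply, ← hd, hxl, e, smul_smul]
      exact mem_line.2 ⟨_, rfl⟩
    refine ⟨σ, fun k => x.injective ?_⟩
    have := hσ k
    rw [LinearEquiv.mul_apply, LinearEquiv.mul_apply] at this
    rw [this, hxl]
  have hne : ∀ u v : V, u ≠ 0 → B u u = 0 → B u v ≠ 0 → B (g u) (g v) ≠ 0 := by
    intro u v hu0 hu huv e
    refine huv (hs.eq_zero_of_line fun k => ?_)
    obtain ⟨c, hc⟩ := mem_line.1 (h u hu0 hu k)
    rw [← hs.preserves g hg, ← hc, map_smul, LinearMap.smul_apply, e, smul_zero, map_zero]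
  -- neighbours
  have key : ∀ u f : V, B u u = 0 → B f f = 0 → B u f = 1 → ∀ σ τ : K →ₐ[F] K,
      (∀ k : K, g (k • u) = σ k • g u) → (∀ k : K, g (k • f) = τ k • g f) → τ = σ := by
    intro u f hu hf huf σ τ hσ hτ
    have hu0 : u ≠ 0 := fun e => by simp [e] at huf
    have hf0 : f ≠ 0 := fun e => by simp [e] at huf
    obtain ⟨y, hy, huy, hfy⟩ := hs.exists_aniso_perp_hyp hu hf huf
    set q := B y y / 2 with hq
    have hq0 : q ≠ 0 := div_ne_zero hy h2
    set wp := f + y - q • u with hwp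
    set wm := f - y - q • u with hwm
    have hp : B wp wp = 0 := by
      simp [hwp, hu, hf, huf, hs.symm f u, huy, hfy, hs.symm y u, hs.symm y f, hq]
      field_simp
      ring
    have hm : B wm wm = 0 := by
      simp [hwm, hu, hf, huf, hs.symm f u, huy, hfy, hs.symm y u, hs.symm y f, hq]
      field_simp
      ring
    have hpm : B wp wm ≠ 0 := by
      have : B wp wm = -(4 * q) := by
        simp [hwp, hwm, hu, hf, huf, hs.symm f u, huy, hfy, hs.symm y u, hs.symm y f, hq]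
        field_simp
        ring
      rw [this, show (4 : K) = 2 * 2 by norm_num]
      exact neg_ne_zero.2 (mul_ne_zero (mul_ne_zero h2 h2) hq0)
    have hpf : B wp f ≠ 0 := by
      simp [hwp, hf, huf, hs.symm y f, hfy, hq0]
    have hmf : B wm f ≠ 0 := by
      simp [hwm, hf, huf, hs.symm y f, hfy, hq0]
    have hp0 : wp ≠ 0 := fun e => hpf (by simp [e])
    have hm0 : wm ≠ 0 := fun e => hmf (by simp [e])
    obtain ⟨α, hα⟩ := hex wp hp0 hp
    obtain ⟨β, hβ⟩ := hex wm hm0 hm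
    have hsum : wp + wm = (2 : K) • f - (2 * q) • u := by rw [hwp, hwm]; module
    have hx := hne wp wm hp0 hp hpm
    have hy' := hne wp f hp0 hp hpf
    have hz := hne wm f hm0 hm hmf
    set a := g wp
    set b := g wm
    set c := g f
    have hk : ∀ k : K, α k • a + β k • b = (2 * τ k) • c - (2 * σ k * σ q) • g u := by
      intro k
      rw [← hα, ← hβ, ← map_add, ← smul_add, hsum, smul_sub, smul_smul, smul_smul, map_sub, hτ, hσ, map_mul τ,
        map_mul σ k, map_mul σ, map_ofNat, map_ofNat]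
      module
    refine AlgHom.ext fun k => sub_eq_zero.1 ?_
    have h1 := hk 1
    rw [map_one, map_one, map_one, map_one, one_smul, one_smul] at h1
    have e : (α k - σ k) • a + (β k - σ k) • b + (-(2 * (τ k - σ k))) • c = 0 := by
      linear_combination (norm := module) hk k - σ k • h1
    have e1 := congrArg (fun z => B z a) e
    have e2 := congrArg (fun z => B z b) e
    have e3 := congrArg (fun z => B z c) e
    simp only [map_add, map_smul, LinearMap.add_apply, LinearMap.smul_apply, smul_eq_mul, map_zero,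
      LinearMap.zero_apply, hsing wp hp0 hp, hsing wm hm0 hm, hsing f hf0 hf, hs.symm b a, hs.symm c a,
      hs.symm c b, a, b, c] at e1 e2 e3
    have h4 : (2 * B a c * B b c) * (-(2 * (τ k - σ k))) = 0 := by
      simp only [a, b, c]
      linear_combination B (g wm) (g f) * e1 + B (g wp) (g f) * e2 - B (g wp) (g wm) * e3
    simpa [h2, hy', hz] using h4
  obtain ⟨u, hu0, hu⟩ := hs.exists_singular
  obtain ⟨f, huf, hf⟩ := hs.exists_partner hu0 hu
  obtain ⟨σ, hσ⟩ := hex u hu0 hu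
  refine ⟨σ, ?_⟩
  have hnb : ∀ v w : V, B v v = 0 → B w w = 0 → B v w ≠ 0 → (∀ k : K, g (k • v) = σ k • g v) →
      ∀ k : K, g (k • w) = σ k • g w := by
    intro v w hv hw hvw hσv k
    have hw0 : w ≠ 0 := fun e => hvw (by simp [e])
    set w' := (B v w)⁻¹ • w with hw'
    obtain ⟨τ, hτ⟩ := hex w hw0 hw
    have hτ' : ∀ k : K, g (k • w') = τ k • g w' := fun k => by
      rw [hw', smul_smul, hτ, hτ (B v w)⁻¹, map_mul, mul_smul]
    have h1 := key v w' hv (by simp [hw', hw]) (by simp [hw', hvw]) σ τ hσv hτ'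
    rw [hτ, h1]
  let S : Submodule K V :=
    { carrier := {y | ∀ k : K, g (k • y) = σ k • g y}
      add_mem' := fun {a b} ha hb k => by rw [smul_add, map_add, ha, hb, map_add, smul_add]
      zero_mem' := fun k => by simp
      smul_mem' := fun d a ha k => by rw [smul_smul, ha, ha, smul_smul, map_mul] }
  have hfS : f ∈ S := hnb u f hu hf (by rw [huf]; exact one_ne_zero) hσ
  intro k y
  suffices y ∈ S from this k
  set m := y - B y f • u - B y u • f with hm
  set w := f + m - (B m m / 2) • u with hw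
  have hum : B u m = 0 := by simp [hm, hu, huf, hs.symm y u]
  have hfm : B f m = 0 := by simp [hm, hf, huf, hs.symm f u, hs.symm y f]
  have hww : B w w = 0 := by
    simp [hw, hu, hf, huf, hs.symm f u, hum, hfm, hs.symm m u, hs.symm m f]
    field_simp
    ring
  have hwS : w ∈ S := hnb u w hu hww (by simp [hw, hu, huf, hum]) hσ
  have e : y = B y f • u + B y u • f + (w - f + (B m m / 2) • u) := by rw [hw, hm]; module
  rw [e]
  exact S.add_mem (S.add_mem (S.smul_mem _ hσ) (S.smul_mem _ hfS))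
    (S.add_mem (S.sub_mem hwS hfS) (S.smul_mem _ hσ))

end CfsgLib.Geo.OrthExt
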