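/-
The root elements of all singular lines generate the orthogonal group over the smaller field.
-/
import Cfsg.Agent.Lib.Geo.OrthExt.Semilinear
import Cfsg.Agent.Lib.Geo.OrthBlockCore

set_option autoImplicit false

namespace CfsgLib.Geo.OrthExt

open Module LinearMap CfsgLib.Geo.FieldExt CfsgLib.Classical.Quad CfsgLib.Geo.OrthMax CfsgLib.Geo.OrthBlock
open LinearMap (BilinForm)
open QuadraticMap (polar polarBilin)

variable {F K V : Type*} [Field F] [Fintype F] [Field K] [Algebra F K] [AddCommGroup V] [Module F V] [Module K V]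
  [IsScalarTower F K V] [FiniteDimensional F K] [FiniteDimensional K V] [FiniteDimensional F V]
  {B : BilinForm K V} {μ : K →ₗ[F] F} {X : Subgroup (V ≃ₗ[F] V)} (hs : Setup B μ X)
  {Q : QuadraticForm F V} (hQ : (polarBilin Q).Nondegenerate) (hp : ∀ x y, polar Q x y = μ (B x y))
include hs hp

omit [Fintype F] [FiniteDimensional F K] [FiniteDimensional K V] [FiniteDimensional F V] in
theorem Setup.q_singular {a : V} (ha : B a a = 0) : Q a = 0 := by
  have h := polar_self' (Q := Q) a
  rw [hp, ha, map_zero] at h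
  exact (mul_eq_zero.1 h.symm).resolve_left hs.two

omit [Fintype F] [FiniteDimensional F K] [FiniteDimensional K V] in
include hQ in
/-- A root element of two perpendicular singular vectors is an Eichler element. -/
theorem Setup.has_of_tMap {w a : V} (ha : B a a = 0) (h : U X (tMap B μ w a)) :
    Has hQ (X.subgroupOf (OQ Q)) w a := by
  intro hw hwa
  obtain ⟨x, hx, hx'⟩ := h
  rw [Subgroup.mem_subgroupOf]
  convert hx using 1
  refine LinearEquiv.ext fun z => ?_
  rw [eich_apply, hx', tMap_apply, hs.q_singular hp ha, hp, hp]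
  module

omit [Fintype F] [FiniteDimensional F K] [FiniteDimensional K V] in
include hQ in
theorem Setup.line_le_rootSpace {u : V} (hu : B u u = 0) (hR : Rooted B μ X u) :
    line (F := F) K u ≤ rootSpace hQ (X.subgroupOf (OQ Q)) u := by
  intro a ha
  obtain ⟨k, rfl⟩ := mem_line.1 ha
  refine ⟨by rw [hp, map_smul, hu, smul_zero, map_zero], fun c => ?_⟩
  exact hs.has_of_tMap hQ hp (by simp [hu]) (hR _ (self_mem_line u) _ (Submodule.smul_mem _ c ha))

omit [FiniteDimensional F V] in
/-- Quadratic extensions: root elements of totally singular planes. -/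
theorem Setup.plane_root (hr : finrank F K = 2) (hR : ∀ w : V, w ≠ 0 → B w w = 0 → Rooted B μ X w) {u v : V}
    (hu : B u u = 0) (hv : B v v = 0) (huv : B u v = 0) : U X (tMap B μ u v) := by
  have hvu : B v u = 0 := by rw [hs.symm, huv]
  obtain ⟨j, hj, hj0⟩ := (Submodule.ne_bot_iff (LinearMap.ker μ)).1 (fun e => by
    have h1 := LinearMap.finrank_range_add_finrank_ker μ
    have h2 := (Submodule.finrank_le (LinearMap.range μ)).trans (Module.finrank_self F).le
    rw [e, finrank_bot, hr] at h1
    omega)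
  rw [LinearMap.mem_ker] at hj
  have hspan : Submodule.span F {(1 : K), j} = ⊤ := by
    refine Submodule.eq_top_of_finrank_eq (le_antisymm (Submodule.finrank_le _) ?_)
    have hlt : Submodule.span F ({(1 : K)} : Set K) < Submodule.span F {(1 : K), j} := by
      refine lt_of_le_of_ne (Submodule.span_mono (by simp)) fun e => ?_
      have h1 : j ∈ Submodule.span F ({(1 : K)} : Set K) := e.symm ▸ Submodule.subset_span (by simp)
      obtain ⟨s, rfl⟩ := Submodule.mem_span_singleton.1 h1
      rw [map_smul, hs.mu_one, smul_eq_mul, mul_one] at hj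
      exact hj0 (by rw [hj, zero_smul])
    have := Submodule.finrank_lt_finrank_of_lt hlt
    rw [finrank_span_singleton one_ne_zero] at this
    omega
  have hdec : ∀ x : K, ∃ s t : F, x = s • (1 : K) + t • j := fun x => by
    obtain ⟨s, t, hst⟩ := Submodule.mem_span_pair.1 (hspan ▸ Submodule.mem_top : x ∈ Submodule.span F {1, j})
    exact ⟨s, t, hst.symm⟩
  obtain ⟨ν, s', hν⟩ := hdec (j * j)
  have hμjj : μ (j * j) = ν := by rw [hν, map_add, map_smul, map_smul, hj, hs.mu_one]; simp
  have hν0 : ν ≠ 0 := by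
    intro e
    have h : (j - algebraMap F K s') * j = 0 := by
      rw [sub_mul, hν, e, zero_smul, zero_add, Algebra.smul_def, sub_self]
    have h2 : j = algebraMap F K s' := sub_eq_zero.1 ((mul_eq_zero.1 h).resolve_right hj0)
    rw [h2, Algebra.algebraMap_eq_smul_one, map_smul, hs.mu_one, smul_eq_mul, mul_one] at hj
    exact hj0 (by rw [h2, hj, map_zero])
  have hB : ∀ x : K, ν • x = (ν * μ x) • (1 : K) + μ (j * x) • j := by
    intro x
    obtain ⟨a, b, rfl⟩ := hdec x
    simp only [map_add, map_smul, hs.mu_one, hj, mul_add, mul_smul_comm, mul_one, hμjj, smul_eq_mul, mul_zero,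
      add_zero, zero_add, smul_add, smul_smul, mul_comm b ν]
  -- the isotropic plane
  have hline : ∀ x : V, B x x = 0 → U X (tMap B μ x (j • x)) := by
    intro x hx
    rcases eq_or_ne x 0 with rfl | hx0
    · exact U.zero.congr fun z => by simp
    · exact hR x hx0 hx x (self_mem_line x) _ (mem_line.2 ⟨j, rfl⟩)
  suffices h : ∀ w : V, B w w = 0 → B u w = 0 → U X (tMap B μ u (((2 * ν) • (1 : K) + s' • j) • w)) by
    have hc : (2 * ν) • (1 : K) + s' • j ≠ 0 := fun e => by
      have h1 := congrArg μ e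
      simp only [map_add, map_smul, hs.mu_one, hj, smul_eq_mul, mul_one, mul_zero, add_zero, map_zero] at h1
      exact mul_ne_zero hs.two hν0 h1
    have h1 := h (((2 * ν) • (1 : K) + s' • j)⁻¹ • v) (by simp [hv]) (by simp [huv])
    rwa [smul_inv_smul₀ hc] at h1
  intro w hw huw
  have hwu : B w u = 0 := by rw [hs.symm, huw]
  -- perpendicular root maps multiply to zero
  have hzero : ∀ a b c d : V, B c a = 0 → B c b = 0 → B d a = 0 → B d b = 0 →
      ∀ z, tMap B μ a b (tMap B μ c d z) = 0 := by
    intro a b c d h1 h2 h3 h4 z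
    simp only [tMap_apply, map_sub, ← algebraMap_smul K (μ (B z d)) c, ← algebraMap_smul K (μ (B z c)) d, map_smul,
      LinearMap.sub_apply, LinearMap.smul_apply, h1, h2, h3, h4, smul_zero, sub_zero, map_zero, zero_smul]
  set x := u + j • w with hx
  have hxx : B x x = 0 := by simp [hx, hu, hw, huw, hwu]
  have h1 := ((hline x hxx).add ((hline u hu).neg fun z => hzero _ _ _ _ (by simp [hu]) (by simp [hu])
    (by simp [hu]) (by simp [hu]) z) fun z => ?_)
  swap
  · rw [LinearMap.neg_apply, map_neg, neg_eq_zero]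
    exact hzero _ _ _ _ (by simp [hx, hu, huw]) (by simp [hx, hu, huw]) (by simp [hx, hu, huw])
      (by simp [hx, hu, huw]) z
  have h2 := h1.add ((hline (j • w) (by simp [hw])).neg fun z => hzero _ _ _ _ (by simp [hw]) (by simp [hw])
    (by simp [hw]) (by simp [hw]) z) fun z => ?_
  swap
  · simp only [LinearMap.add_apply, LinearMap.neg_apply, map_neg]
    rw [hzero _ _ _ _ (by simp [hx, hw, hwu]) (by simp [hx, hw, hwu]) (by simp [hx, hw, hwu]) (by simp [hx, hw, hwu]),
      hzero _ _ _ _ (by simp [hwu]) (by simp [hwu]) (by simp [hwu]) (by simp [hwu])]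
    simp
  obtain ⟨g, hg, hg'⟩ := hs.siegel_mem hu huw
  have hpow : ∀ (s : F), U X (s • (((B.flip w).smulRight u - (B.flip u).smulRight w).restrictScalars F)) := by
    intro s
    obtain ⟨g, hg, hg'⟩ := hs.siegel_mem hu (y := (algebraMap F K s) • w) (by simp [huw])
    refine ⟨g, hg, fun z => ?_⟩
    rw [hg', LinearMap.smul_apply, ← algebraMap_smul K s (_ : V), siegelMap_apply]
    simp only [map_smul, LinearMap.smul_apply, LinearMap.sub_apply, LinearMap.restrictScalars_apply,
      LinearMap.smulRight_apply, LinearMap.BilinForm.flip_apply, hw, smul_eq_mul]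
    match_scalars <;> ring
  refine ((hpow ν).add h2 fun z => ?_).congr fun z => ?_
  · simp only [LinearMap.smul_apply, LinearMap.restrictScalars_apply, LinearMap.sub_apply, LinearMap.smulRight_apply,
      LinearMap.BilinForm.flip_apply, LinearMap.add_apply, LinearMap.neg_apply, tMap_apply,
      ← algebraMap_smul K (μ (B z (j • x))), ← algebraMap_smul K (μ (B z x)), ← algebraMap_smul K (μ (B z (j • u))),
      ← algebraMap_smul K (μ (B z u)), ← algebraMap_smul K (μ (B z (j • j • w))),
      ← algebraMap_smul K (μ (B z (j • w))), map_add, map_sub, map_neg, map_smul, LinearMap.add_apply, hx, hu, hw,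
      huw, hwu, smul_zero, sub_zero, add_zero, neg_zero, zero_smul]
  · have eB : ∀ y : K, ∀ p : V, ν • (y • p) = (ν * μ y) • p + μ (j * y) • j • p := fun y p => by
      rw [← smul_assoc, hB, add_smul, smul_assoc, one_smul, smul_assoc]
    have ej : ∀ p : V, j • j • p = ν • p + s' • j • p := fun p => by
      rw [smul_smul, hν, add_smul, smul_assoc, one_smul, smul_assoc]
    simp only [LinearMap.smul_apply, LinearMap.restrictScalars_apply, LinearMap.sub_apply, LinearMap.smulRight_apply,
      LinearMap.BilinForm.flip_apply, LinearMap.add_apply, LinearMap.neg_apply, tMap_apply, hx, smul_sub, eB,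
      smul_add, ej, add_smul, smul_assoc, one_smul, map_add, LinearMap.map_smul_of_tower, map_smul, smul_eq_mul]
    match_scalars <;> simp only [map_ofNat, map_mul, map_one, map_neg, map_zero] <;> ring

/-- Vectors of lines not perpendicular to a singular vector. -/
theorem Setup.mem_rootSpace_of_line (h5 : finrank F K = 2 → 5 ≤ finrank K V)
    (hR : ∀ w : V, w ≠ 0 → B w w = 0 → Rooted B μ X w) {u f : V} (hu : B u u = 0) (hf : B f f = 0)
    (huf : B u f = 1) {k : K} (hk : μ k = 0) : k • f ∈ rootSpace hQ (X.subgroupOf (OQ Q)) u := by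
  classical
  haveI : Finite K := Module.finite_of_finite F
  rcases eq_or_ne k 0 with rfl | hk0
  · rw [zero_smul]; exact zero_mem _
  have hu0 : u ≠ 0 := fun e => by simp [e] at huf
  have hf0 : f ≠ 0 := fun e => by simp [e] at huf
  have hRS := hs.line_le_rootSpace hQ hp hu (hR u hu0 hu)
  have hdiff : ∀ {a b c : V}, U X (tMap B μ a b) → μ (B u a) = 0 → μ (B u b) = 0 →
      c ∈ rootSpace hQ (X.subgroupOf (OQ Q)) u →
      μ (B c b) • a - μ (B c a) • b ∈ rootSpace hQ (X.subgroupOf (OQ Q)) u := by
    intro a b c h ha hb hc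
    obtain ⟨x, hx, hx'⟩ := h
    have hxO : x ∈ OQ Q := mem_OQ.2 fun z => by
      have h1 := hs.preserves x hx z z
      rw [← hp, ← hp, polar_self', polar_self'] at h1
      exact mul_left_cancel₀ hs.two h1
    have h1 := rootSpace_diff (g := ⟨x, hxO⟩) (Subgroup.mem_subgroupOf.2 hx)
      (show x u = u by rw [hx', tMap_apply, ha, hb, zero_smul, zero_smul, sub_zero, add_zero]) hc
    rwa [show x c - c = _ from sub_eq_iff_eq_add'.2 (hx' c), tMap_apply] at h1
  by_cases hr : finrank F K = 2
  · obtain ⟨p₁, hp₁, hup₁, hfp₁⟩ := hs.exists_aniso_perp_hyp hu hf huf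
    obtain ⟨p₂, hp₂, hup₂, hfp₂, h12⟩ := hs.exists_aniso_perp_three hu hf huf hp₁ hup₁ hfp₁
      (by have := h5 hr; omega)
    obtain ⟨p₃, hp₃, hperp⟩ := hs.exists_aniso_perp (S := Submodule.span K (Set.range ![u, f, p₁, p₂]))
      (fun x hx h => by
        obtain ⟨c, rfl⟩ := (Submodule.mem_span_range_iff_exists_fun K).1 hx
        have g : ∀ i, B (![u, f, p₁, p₂] i) (∑ i, c i • ![u, f, p₁, p₂] i) = 0 := fun i =>
          h _ (Submodule.subset_span ⟨i, rfl⟩)
        have g0 := g 0
        have g1 := g 1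
        have g2 := g 2
        have g3 := g 3
        simp [Fin.sum_univ_four, hu, hf, huf, hup₁, hfp₁, hup₂, hfp₂, h12, hp₁, hp₂, hs.symm f u, hs.symm p₁ u,
          hs.symm p₁ f, hs.symm p₂ u, hs.symm p₂ f, hs.symm p₂ p₁] at g0 g1 g2 g3
        simp [Fin.sum_univ_four, g0, g1, g2, g3])
      (lt_of_le_of_lt (finrank_range_le_card _) (by have := h5 hr; simp; omega))
    have hup₃ : B u p₃ = 0 := hperp _ (Submodule.subset_span ⟨0, rfl⟩)
    have hfp₃ : B f p₃ = 0 := hperp _ (Submodule.subset_span ⟨1, rfl⟩)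
    have h13 : B p₁ p₃ = 0 := hperp _ (Submodule.subset_span ⟨2, rfl⟩)
    have h23 : B p₂ p₃ = 0 := hperp _ (Submodule.subset_span ⟨3, rfl⟩)
    obtain ⟨a, b, hab⟩ := hs.exists_value hp₁ hp₂ h12 (-B p₃ p₃)
    set v := a • p₁ + b • p₂ + p₃ with hv
    have hvv : B v v = 0 := by
      rw [hv, hs.self_add, hab]
      simp [h13, h23]
    have huv : B u v = 0 := by simp [hv, hup₁, hup₂, hup₃]
    have hfv : B f v = 0 := by simp [hv, hfp₁, hfp₂, hfp₃]
    have hvp : B v p₃ = B p₃ p₃ := by simp [hv, h13, h23]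
    set v' := (B p₃ p₃)⁻¹ • p₃ with hv'
    set c := v' + (-(B v' v' / 2)) • v with hc
    have h2 := hs.two'
    have hvc : B v c = 1 := by simp [hc, hv', hvp, hvv, hp₃]
    have hcc : B c c = 0 := by
      rw [hc, hs.self_add]
      simp [hv', hvp, hvv, hp₃, hs.symm p₃ v]
      field_simp
      ring
    have huc : B u c = 0 := by simp [hc, hv', hup₃, huv]
    have hfc : B f c = 0 := by simp [hc, hv', hfp₃, hfv]
    have hcR : c ∈ rootSpace hQ (X.subgroupOf (OQ Q)) u := ⟨by rw [hp, huc, map_zero], fun s => by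
      refine hs.has_of_tMap hQ hp (by rw [← algebraMap_smul K s c]; simp [hcc]) ?_
      exact hs.plane_root hp hr hR hu (by rw [← algebraMap_smul K s c]; simp [hcc])
        (by rw [← algebraMap_smul K s c]; simp [huc])⟩
    have h1 := hdiff (hs.plane_root hp hr hR (u := k • f) (v := v) (by simp [hf]) hvv (by simp [hfv]))
      (by simp [huf, hk]) (by simp [huv]) hcR
    simpa [hs.symm c v, hvc, hs.mu_one, hs.symm c f, hfc] using h1
  · -- larger degree
    have h3 : 3 ≤ finrank F K := by have := hs.prime.two_le; omega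
    let g : K →ₗ[F] F := μ.comp (LinearMap.mulRight F k)
    obtain ⟨c, hc, hcF⟩ : ∃ c, μ (c * k) = 0 ∧ c ∉ Set.range (algebraMap F K) := by
      by_contra! hall
      have hle : LinearMap.ker g ≤ Submodule.span F {(1 : K)} := fun c hc => by
        obtain ⟨s, rfl⟩ := hall c hc
        exact Submodule.mem_span_singleton.2 ⟨s, (Algebra.algebraMap_eq_smul_one s).symm⟩
      have h1 := LinearMap.finrank_range_add_finrank_ker g
      have h2 := (Submodule.finrank_le (LinearMap.range g)).trans (Module.finrank_self F).le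
      have h4 := (Submodule.finrank_mono hle).trans (finrank_span_singleton one_ne_zero).le
      omega
    obtain ⟨l, hl, hcl⟩ : ∃ l, μ l = 0 ∧ μ (c * l) ≠ 0 := by
      by_contra! hall
      refine hcF ⟨μ c, (sub_eq_zero.1 (hs.eq_zero_of_mu fun d => ?_)).symm⟩
      have h1 := hall (d - μ d • 1) (by simp [hs.mu_one])
      rw [mul_sub, mul_smul_comm, mul_one, map_sub, map_smul, smul_eq_mul] at h1
      rw [mul_sub, map_sub, ← Algebra.commutes, ← Algebra.smul_def, map_smul, smul_eq_mul, mul_comm d c]
      linear_combination h1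
    have h1 := hdiff (hR f hf0 hf _ (mem_line.2 ⟨k, rfl⟩) _ (mem_line.2 ⟨l, rfl⟩))
      (by simp [huf, hk]) (by simp [huf, hl]) (hRS (mem_line.2 ⟨c, rfl⟩))
    have h2 := Submodule.smul_mem _ (μ (c * l))⁻¹ h1
    simpa [huf, hc, hcl, mul_comm l c, mul_comm k c] using h2

/-- All root elements give the whole group. -/
theorem Setup.eichGroup_le (h5 : finrank F K = 2 → 5 ≤ finrank K V)
    (hR : ∀ w : V, w ≠ 0 → B w w = 0 → Rooted B μ X w) (hn : 5 ≤ finrank F V) :
    eichGroup hQ ≤ X.subgroupOf (OQ Q) := by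
  haveI : Finite K := Module.finite_of_finite F
  have h2 := hs.two'
  have hall : ∀ u f : V, B u u = 0 → B f f = 0 → B u f = 1 → HasRoot hQ (X.subgroupOf (OQ Q)) u := by
    intro u f hu hf huf
    have hu0 : u ≠ 0 := fun e => by simp [e] at huf
    have hRS := hs.line_le_rootSpace hQ hp hu (hR u hu0 hu)
    have hK := fun f' hf' huf' k hk => hs.mem_rootSpace_of_line hQ hp h5 hR (f := f') (k := k) hu hf' huf' hk
    obtain ⟨k₀, hk₀, hk0⟩ := (Submodule.ne_bot_iff (LinearMap.ker μ)).1 (fun e => by
      have h1 := LinearMap.finrank_range_add_finrank_ker μ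
      have h3 := (Submodule.finrank_le (LinearMap.range μ)).trans (Module.finrank_self F).le
      have := hs.prime.two_le
      rw [e, finrank_bot] at h1
      omega)
    rw [LinearMap.mem_ker] at hk₀
    intro z hw hz
    suffices hmem : z ∈ rootSpace hQ (X.subgroupOf (OQ Q)) u by
      have h1 := hmem.2 1
      rw [one_smul] at h1
      exact h1 hw hz
    have hμ : μ (B z u) = 0 := by rw [← hp, QuadraticMap.polar_comm]; exact hz
    set m := z - B z f • u - B z u • f with hm
    set m' := k₀⁻¹ • m with hm'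
    have hum : B u m' = 0 := by simp [hm', hm, hu, huf, hs.symm z u]
    have hfm : B f m' = 0 := by simp [hm', hm, hf, hs.symm f u, huf, hs.symm z f]
    set w := f + m' - (B m' m' / 2) • u with hw'
    have hww : B w w = 0 := by
      simp [hw', hu, hf, huf, hs.symm f u, hum, hfm, hs.symm m' u, hs.symm m' f]
      field_simp
      ring
    have huw : B u w = 1 := by simp [hw', hu, huf, hum]
    have e : z = B z f • u + B z u • f + (k₀ • w - k₀ • f + (k₀ * (B m' m' / 2)) • u) := by
      have hm2 : k₀ • m' = m := by rw [hm', smul_inv_smul₀ hk0]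
      rw [hw', smul_sub, smul_add, hm2, hm, smul_smul]
      module
    rw [e]
    exact add_mem (add_mem (hRS (mem_line.2 ⟨_, rfl⟩)) (hK f hf huf _ hμ))
      (add_mem (sub_mem (hK w hww huw _ hk₀) (hK f hf huf _ hk₀)) (hRS (mem_line.2 ⟨_, rfl⟩)))
  obtain ⟨u, hu0, hu⟩ := hs.exists_singular
  obtain ⟨f, huf, hf⟩ := hs.exists_partner hu0 hu
  exact OrthBlock.le_of_pair hn (hs.q_singular hp hu) (hs.q_singular hp hf) (by rw [hp, huf, hs.mu_one])
    (hall u f hu hf huf) (hall f u hf hu (by rw [hs.symm, huf]))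

end CfsgLib.Geo.OrthExt
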