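/-
Images of singular lines meeting singular lines as much as possible.
-/
import Cfsg.Agent.Lib.Geo.OrthExt.Semilinear

set_option autoImplicit false

namespace CfsgLib.Geo.OrthExt

open Module LinearMap CfsgLib.Geo.FieldExt
open LinearMap (BilinForm)

variable {F K V : Type*} [Field F] [Fintype F] [Field K] [Algebra F K] [AddCommGroup V] [Module F V] [Module K V]
  [IsScalarTower F K V] [FiniteDimensional F K] [FiniteDimensional K V]

/-- The image of a line. -/
def img (K : Type*) [Field K] [Algebra F K] [Module K V] [IsScalarTower F K V] (h : V ≃ₗ[F] V) (v : V) :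
    Submodule F V :=
  (line (F := F) K v).map (h : V →ₗ[F] V)

omit [Fintype F] [FiniteDimensional F K] [FiniteDimensional K V] in
theorem mem_img {h : V ≃ₗ[F] V} {v x : V} : x ∈ img (F := F) K h v ↔ ∃ c : K, h (c • v) = x := by
  constructor
  · rintro ⟨y, hy, rfl⟩
    obtain ⟨c, rfl⟩ := mem_line.1 hy
    exact ⟨c, rfl⟩
  · rintro ⟨c, rfl⟩
    exact ⟨c • v, mem_line.2 ⟨c, rfl⟩, rfl⟩

/-- The image of a singular line meets another singular line and differs from it. -/
structure STrip (B : BilinForm K V) (X : Subgroup (V ≃ₗ[F] V)) (h : V ≃ₗ[F] V) (v v' : V) : Prop where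
  mem : h ∈ X
  ne : v ≠ 0
  sing : B v v = 0
  ne' : v' ≠ 0
  sing' : B v' v' = 0
  meet : v' ∈ img (F := F) K h v
  not_line : img (F := F) K h v ≠ line K v'

/-- The intersection is as large as possible. -/
structure MaxT (B : BilinForm K V) (X : Subgroup (V ≃ₗ[F] V)) (h : V ≃ₗ[F] V) (v v' : V) : Prop where
  trip : STrip B X h v v'
  max : ∀ g u u', STrip B X g u u' → finrank F (img (F := F) K g u ⊓ line K u' : Submodule F V) ≤
    finrank F (img (F := F) K h v ⊓ line K v' : Submodule F V)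

variable {B : BilinForm K V} {μ : K →ₗ[F] F} {X : Subgroup (V ≃ₗ[F] V)} (hs : Setup B μ X)
  {h : V ≃ₗ[F] V} {v v' : V}
include hs

omit [Fintype F] [FiniteDimensional F K] [FiniteDimensional K V] in
theorem Setup.img_isotropic (hh : h ∈ X) (hv : B v v = 0) {x y : V} (hx : x ∈ img (F := F) K h v)
    (hy : y ∈ img (F := F) K h v) : μ (B x y) = 0 := by
  obtain ⟨a, rfl⟩ := mem_img.1 hx
  obtain ⟨b, rfl⟩ := mem_img.1 hy
  rw [hs.preserves h hh]
  simp [hv]

omit [Fintype F] [FiniteDimensional F K] [FiniteDimensional K V] in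
theorem Setup.exists_dual_perp {v z : V} (hv : v ≠ 0) (hz : ∀ c : K, c • v ≠ z) (k : K) :
    ∃ y, B v y = 0 ∧ B z y = k := by
  obtain ⟨y₀, hy₀, hy₀'⟩ : ∃ y, B v y = 0 ∧ B z y ≠ 0 := by
    by_contra! hall
    obtain ⟨f, hf⟩ := hs.exists_pairing hv
    refine hz (B z f) (sub_eq_zero.1 (hs.nondeg.1 _ fun y => ?_))
    have h1 := hall (y - B v y • f) (by simp [hf])
    simp only [map_sub, map_smul, smul_eq_mul] at h1
    simp only [map_sub, map_smul, LinearMap.sub_apply, LinearMap.smul_apply, smul_eq_mul]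
    linear_combination -h1
  exact ⟨(k / B z y₀) • y₀, by simp [hy₀], by simp [hy₀']⟩

variable (ht : MaxT B X h v v')
include ht

omit [Fintype F] in
/-- Elements of `X` moving the image meet it at most as much. -/
theorem Setup.stab_of_lt [Module.Finite F V] {x : V ≃ₗ[F] V} (hx : x ∈ X)
    (hlt : finrank F (img (F := F) K h v ⊓ line K v' : Submodule F V) <
      finrank F ((img (F := F) K h v).map (x : V →ₗ[F] V) ⊓ img K h v : Submodule F V)) :
    (img (F := F) K h v).map (x : V →ₗ[F] V) = img K h v := by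
  by_contra hne
  set W := img (F := F) K h v
  obtain ⟨p, hp, hp0⟩ := (Submodule.ne_bot_iff (W.map (x : V →ₗ[F] V) ⊓ W)).1 (fun e => by
    rw [e, finrank_bot] at hlt
    omega)
  set g := h.symm
  set h' : V ≃ₗ[F] V := h⁻¹ * x * h
  have hh' : h' ∈ X := X.mul_mem (X.mul_mem (X.inv_mem ht.trip.mem) hx) ht.trip.mem
  have himg : img (F := F) K h' v = (W.map (x : V →ₗ[F] V)).map (h.symm : V →ₗ[F] V) := by
    rw [img, ← Submodule.map_comp, show W = (line (F := F) K v).map (h : V →ₗ[F] V) from rfl, ← Submodule.map_comp]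
    rfl
  have hL : W.map (h.symm : V →ₗ[F] V) = line K v := by
    show ((line (F := F) K v).map (h : V →ₗ[F] V)).map (h.symm : V →ₗ[F] V) = _
    rw [← Submodule.map_comp]
    simp
  have hq : h.symm p ∈ line (F := F) K v := hL ▸ Submodule.mem_map_of_mem hp.2
  have hq0 : h.symm p ≠ 0 := h.symm.map_ne_zero_iff.2 hp0
  obtain ⟨c, hc⟩ := mem_line.1 hq
  have htrip : STrip B X h' v (h.symm p) := ⟨hh', ht.trip.ne, ht.trip.sing, hq0,
    by rw [← hc]; simp [ht.trip.sing], himg ▸ Submodule.mem_map_of_mem hp.1, fun e => by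
      rw [line_eq hq hq0, himg, ← hL] at e
      exact hne (Submodule.map_injective_of_injective h.symm.injective e)⟩
  have h1 := ht.max _ _ _ htrip
  rw [line_eq hq hq0, himg, ← hL, ← Submodule.map_inf _ h.symm.injective,
    ← (Submodule.equivMapOfInjective _ h.symm.injective _).finrank_eq] at h1
  exact absurd hlt (not_lt.2 h1)

omit [Fintype F] in
/-- Fixing the intersection and moving a further vector into the image. -/
theorem Setup.stab_of_fix [Module.Finite F V] {x : V ≃ₗ[F] V} (hx : x ∈ X)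
    (hA : ∀ z ∈ img (F := F) K h v ⊓ line K v', x z = z) {w : V} (hw : w ∈ img (F := F) K h v)
    (hwn : w ∉ line (F := F) K v') (hxw : x w ∈ img (F := F) K h v) :
    (img (F := F) K h v).map (x : V →ₗ[F] V) = img K h v := by
  refine hs.stab_of_lt ht hx ?_
  set W := img (F := F) K h v
  set A := W ⊓ line (F := F) K v'
  have hlt : A < A ⊔ Submodule.span F {w} := left_lt_sup.2 fun hle => hwn
    (hle (Submodule.mem_span_singleton_self w)).2
  refine (Submodule.finrank_lt_finrank_of_lt hlt).trans_le ?_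
  rw [(Submodule.equivMapOfInjective (x : V →ₗ[F] V) x.injective _).finrank_eq]
  refine Submodule.finrank_mono (le_inf (Submodule.map_mono (sup_le inf_le_left ?_)) ?_)
  · exact (Submodule.span_singleton_le_iff_mem _ _).2 hw
  · rw [Submodule.map_sup, Submodule.map_span, Set.image_singleton]
    refine sup_le ?_ ((Submodule.span_singleton_le_iff_mem _ _).2 hxw)
    rintro _ ⟨z, hz, rfl⟩
    show x z ∈ W
    rw [hA z hz]
    exact hz.1

omit [Fintype F] [FiniteDimensional F K] [FiniteDimensional K V] in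
theorem Setup.semi_of_stab (hL : LinesSemi B X) {x : V ≃ₗ[F] V} (hx : x ∈ X)
    (hst : (img (F := F) K h v).map (x : V →ₗ[F] V) = img K h v) {z : K} (hz : z ≠ 0) {s : F}
    (hxz : x (h (z • v)) = s • h (z • v)) :
    ∃ σ : K →ₐ[F] K, ∀ c : K, x (h ((c * z) • v)) = s • h ((σ c * z) • v) := by
  set h' : V ≃ₗ[F] V := h⁻¹ * x * h
  have hh' : h' ∈ X := X.mul_mem (X.mul_mem (X.inv_mem ht.trip.mem) hx) ht.trip.mem
  have happ : ∀ y, h' y = h.symm (x (h y)) := fun y => rfl
  have hline : ∀ k : K, h' (k • v) ∈ line (F := F) K v := fun k => by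
    have : x (h (k • v)) ∈ img (F := F) K h v := hst ▸ Submodule.mem_map_of_mem (mem_img.2 ⟨k, rfl⟩)
    obtain ⟨c, hc⟩ := mem_img.1 this
    rw [happ, ← hc, h.symm_apply_apply]
    exact mem_line.2 ⟨c, rfl⟩
  obtain ⟨σ, hσ⟩ := hL v ht.trip.ne ht.trip.sing h' hh' hline
  refine ⟨σ, fun c => h.symm.injective ?_⟩
  rw [← happ, hσ, map_mul σ, mul_smul, ← hσ, happ, hxz, h.symm.map_smul, h.symm.map_smul, h.symm_apply_apply,
    h.symm_apply_apply, smul_comm, smul_smul]

/-- No vector of the image outside the line is perpendicular to it. -/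
theorem Setup.false_of_perp (hL : LinesSemi B X) {w : V} (hw : w ∈ img (F := F) K h v)
    (hwn : w ∉ line (F := F) K v') (hwv : B w v' = 0) : False := by
  haveI : Module.Finite F V := Module.Finite.trans K V
  obtain ⟨hh, hv, hvv, hv', hv'v', hmem, -⟩ := ht.trip
  set W := img (F := F) K h v with hW
  set A := W ⊓ line (F := F) K v' with hA
  -- a vector of the line perpendicular to the image and outside it
  obtain ⟨k, hk, hkW⟩ : ∃ k : K, (∀ ω ∈ W, μ (B (k • v') ω) = 0) ∧ k • v' ∉ W := by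
    let ψ : W →ₗ[F] K := ((B v').restrictScalars F).comp W.subtype
    let Φ : K →ₗ[F] (LinearMap.range ψ →ₗ[F] F) :=
      { toFun := fun k => μ.comp ((mulL k).comp (LinearMap.range ψ).subtype)
        map_add' := fun a b => LinearMap.ext fun x => by simp [add_mul]
        map_smul' := fun s a => LinearMap.ext fun x => by simp }
    have h1 := LinearMap.finrank_range_add_finrank_ker ψ
    have h2 : finrank F A < finrank F (LinearMap.ker ψ) := by
      rw [(Submodule.equivMapOfInjective _ W.subtype_injective (LinearMap.ker ψ)).finrank_eq]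
      refine Submodule.finrank_lt_finrank_of_lt (lt_of_le_of_ne (fun z hz => ⟨⟨z, hz.1⟩, ?_, rfl⟩) fun e => hwn ?_)
      · obtain ⟨c, rfl⟩ := mem_line.1 hz.2
        simp [ψ, hv'v']
      · exact (e.ge ⟨⟨w, hw⟩, by simp [ψ, hs.symm v' w, hwv], rfl⟩).2
    have h3 := LinearMap.finrank_range_add_finrank_ker Φ
    have h4 : finrank F (LinearMap.range Φ) ≤ finrank F (LinearMap.range ψ) :=
      (Submodule.finrank_le _).trans Subspace.dual_finrank_eq.le
    have h5 : finrank F W = finrank F K :=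
      (Submodule.equivMapOfInjective (h : V →ₗ[F] V) h.injective _).finrank_eq.symm.trans (finrank_line hv)
    by_contra! hall
    have h6 : finrank F (LinearMap.ker Φ) ≤ finrank F A := by
      rw [(Submodule.equivMapOfInjective ((LinearMap.toSpanSingleton K V v').restrictScalars F)
        (smul_left_injective K hv') (LinearMap.ker Φ)).finrank_eq]
      refine Submodule.finrank_mono ?_
      rintro _ ⟨k, hk, rfl⟩
      refine ⟨hall k fun ω hω => ?_, mem_line.2 ⟨k, rfl⟩⟩
      have := congrFun (congrArg DFunLike.coe (LinearMap.mem_ker.1 hk)) ⟨ψ ⟨ω, hω⟩, LinearMap.mem_range_self ψ _⟩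
      simpa [Φ, ψ] using this
    omega
  set m := k • v' with hm
  obtain ⟨y, hy, hwy⟩ := hs.exists_dual_perp hv' (fun c e => hwn (mem_line.2 ⟨c, e⟩)) k
  obtain ⟨g, hg, hg'⟩ := hs.siegel_mem hv'v' hy
  have hgl : ∀ c : K, g (c • v') = c • v' := fun c => by simp [hg', siegelMap_apply, hy, hv'v']
  have hgw : g w = w + m := by rw [hg', siegelMap_apply, hwy, hwv, hm]; simp
  set m₀ := h.symm m with hm₀
  have hm₀v : B v m₀ = 0 := hs.eq_zero_of_line fun d => by
    rw [← hs.preserves h hh, hm₀, h.apply_symm_apply, hs.symm]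
    exact hk _ (mem_img.2 ⟨d, rfl⟩)
  -- translations of `m` into the image
  have hmove : ∀ t ∈ W, ∃ x ∈ X, (∀ z ∈ W, x z = z) ∧ x m = m + t := by
    intro t ht'
    obtain ⟨c, rfl⟩ := mem_img.1 ht'
    obtain ⟨y', hy', hy''⟩ := hs.exists_dual_perp hv (fun d e => hkW (mem_img.2 ⟨d, by
      rw [e]; exact h.apply_symm_apply m⟩)) c
    obtain ⟨e, he, he'⟩ := hs.siegel_mem hvv hy'
    refine ⟨h * e * h⁻¹, X.mul_mem (X.mul_mem hh he) (X.inv_mem hh), fun z hz => ?_, ?_⟩
    · obtain ⟨d, rfl⟩ := mem_img.1 hz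
      show h (e (h.symm (h (d • v)))) = _
      rw [h.symm_apply_apply]
      simp [he', siegelMap_apply, hy', hvv]
    · show h (e (h.symm m)) = _
      rw [← hm₀, he', siegelMap_apply, hy'', hs.symm m₀ v, hm₀v, hm₀]
      simp
  obtain ⟨z, hz'⟩ := mem_img.1 hmem
  have hz0 : z ≠ 0 := fun e => hv' (by rw [← hz', e, zero_smul, map_zero])
  obtain ⟨c, hc⟩ := mem_img.1 hw
  have hc0 : c / z ≠ 0 := div_ne_zero (fun e => hwn (by rw [← hc, e]; simp)) hz0
  have huniq : ∀ {a b : K}, h (a • v) = h (b • v) → a = b := fun e => smul_left_injective K hv (h.injective e)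
  have hfin : ∀ x ∈ X, (∀ a ∈ A, x a = a) → x w ∈ W → ∃ σ : K →ₐ[F] K, x w = h ((σ (c / z) * z) • v) := by
    intro x hx hxA hxw
    obtain ⟨σ, hσ⟩ := hs.semi_of_stab ht hL hx (hs.stab_of_fix ht hx hxA hw hwn hxw) hz0 (s := 1)
      (by rw [one_smul, hz']; exact hxA v' ⟨hmem, self_mem_line v'⟩)
    refine ⟨σ, ?_⟩
    have h1 := hσ (c / z)
    rw [div_mul_cancel₀ _ hz0, hc, one_smul] at h1
    exact h1
  by_cases hr : finrank F K = 2
  · obtain ⟨x, hx, hxW, hxm⟩ := hmove v' hmem
    have hAx : ∀ a ∈ A, (g⁻¹ * x * g) a = a := fun a ha => by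
      obtain ⟨d, rfl⟩ := mem_line.1 ha.2
      show g.symm (x (g (d • v'))) = _
      rw [hgl, hxW _ ha.1, LinearEquiv.symm_apply_eq, hgl]
    have hxw : (g⁻¹ * x * g) w = w + v' := by
      show g.symm (x (g w)) = _
      have h1 := hgl 1
      rw [one_smul] at h1
      rw [hgw, map_add, hxW w hw, hxm, LinearEquiv.symm_apply_eq, map_add, hgw, h1]
      abel
    obtain ⟨σ, hσ⟩ := hfin _ (X.mul_mem (X.mul_mem (X.inv_mem hg) hx) hg) hAx
      (hxw.symm ▸ W.add_mem hw hmem)
    rw [hxw, ← hc, ← hz', ← map_add, ← add_smul] at hσ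
    refine algHom_ne_add_one hs.prime hr hs.two (σ := σ) (c := c / z) (mul_right_cancel₀ hz0 ?_)
    rw [← huniq hσ, add_mul, one_mul, div_mul_cancel₀ _ hz0]
  · obtain ⟨x, hx, hxW, hxm⟩ := hmove (-(w + w)) (W.neg_mem (W.add_mem hw hw))
    have hAx : ∀ a ∈ A, (g * x * g) a = a := fun a ha => by
      obtain ⟨d, rfl⟩ := mem_line.1 ha.2
      show g (x (g (d • v'))) = _
      rw [hgl, hxW _ ha.1, hgl]
    have hgm : g m = m := hgl k
    have hxw : (g * x * g) w = -w := by
      show g (x (g w)) = _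
      rw [hgw, map_add, hxW w hw, hxm]
      simp only [map_add, map_neg, hgm, hgw]
      abel
    obtain ⟨σ, hσ⟩ := hfin _ (X.mul_mem (X.mul_mem hg hx) hg) hAx (hxw.symm ▸ W.neg_mem hw)
    rw [hxw, ← hc, ← map_neg, ← neg_smul] at hσ
    refine hc0 (algHom_ne_neg hs.prime hr hs.two (σ := σ) (mul_right_cancel₀ hz0 ?_))
    rw [← huniq hσ, neg_mul, div_mul_cancel₀ _ hz0]

/-- A translate with perpendicular image gives a contradiction. -/
theorem Setup.false_of_translate (hL : LinesSemi B X) {x : V ≃ₗ[F] V} (hx : x ∈ X)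
    (hA : ∀ a ∈ img (F := F) K h v ⊓ line K v', x a = a) {w : V} (hw : w ∈ img (F := F) K h v)
    (hxw : x w ∉ img (F := F) K h v) (hperp : ∀ ω ∈ img (F := F) K h v, μ (B (x w) ω) = 0) : False := by
  haveI : Module.Finite F V := Module.Finite.trans K V
  obtain ⟨hh, hv, hvv, hv', hv'v', hmem, -⟩ := ht.trip
  set h' : V ≃ₗ[F] V := h⁻¹ * x * h
  have hh' : h' ∈ X := X.mul_mem (X.mul_mem (X.inv_mem hh) hx) hh
  have happ : ∀ y, h' y = h.symm (x (h y)) := fun y => rfl
  obtain ⟨z, hz⟩ := mem_img.1 hmem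
  have hz0 : z • v ≠ 0 := fun e => hv' (by rw [← hz, e, map_zero])
  have hzl : z • v ∈ line (F := F) K v := mem_line.2 ⟨z, rfl⟩
  obtain ⟨c, hc⟩ := mem_img.1 hw
  have hxwn : h' (c • v) ∉ line (F := F) K (z • v) := fun hm => hxw (by
    rw [line_eq hzl hz0, happ, hc] at hm
    obtain ⟨d, hd⟩ := mem_line.1 hm
    exact mem_img.2 ⟨d, by rw [hd, h.apply_symm_apply]⟩)
  have hfix : h' (z • v) = z • v := by
    rw [happ, hz, hA v' ⟨hmem, self_mem_line v'⟩, h.symm_apply_eq, hz]
  have htrip : STrip B X h' v (z • v) := ⟨hh', hv, hvv, hz0, by simp [hvv],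
    mem_img.2 ⟨z, hfix⟩, fun e => hxwn (e ▸ mem_img.2 ⟨c, rfl⟩)⟩
  have hle : finrank F (img (F := F) K h v ⊓ line K v' : Submodule F V) ≤
      finrank F (img (F := F) K h' v ⊓ line K (z • v) : Submodule F V) := by
    rw [(Submodule.equivMapOfInjective (h.symm : V →ₗ[F] V) h.symm.injective _).finrank_eq]
    refine Submodule.finrank_mono ?_
    rintro _ ⟨a, ha, rfl⟩
    obtain ⟨d, hd⟩ := mem_img.1 ha.1
    show h.symm a ∈ _
    rw [← hd, h.symm_apply_apply, line_eq hzl hz0]
    refine ⟨mem_img.2 ⟨d, ?_⟩, mem_line.2 ⟨d, rfl⟩⟩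
    rw [happ, hd, hA a ha, ← hd, h.symm_apply_apply]
  have ht' : MaxT B X h' v (z • v) := ⟨htrip, fun g u u' hg => (ht.max g u u' hg).trans hle⟩
  refine hs.false_of_perp ht' hL (mem_img.2 ⟨c, rfl⟩) hxwn ?_
  rw [hs.symm]
  refine hs.eq_zero_of_line fun d => ?_
  rw [smul_smul, ← hs.preserves h hh, happ, h.apply_symm_apply, hc, hs.symm]
  exact hperp _ (mem_img.2 ⟨_, rfl⟩)

/-- Images in a hyperbolic plane with a suitable perpendicular vector are impossible. -/
theorem Setup.false_of_planar (hL : LinesSemi B X) {f₀ : V} (hvf : B v' f₀ = 1) (hff : B f₀ f₀ = 0)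
    (hplane : ∀ ω ∈ img (F := F) K h v, ω = B ω f₀ • v' + B ω v' • f₀) {w c : V} (hw : w ∈ img (F := F) K h v)
    (he : B w v' ≠ 0) (hcv : B v' c = 0) (hcf : B f₀ c = 0) {s : F} (hs0 : s ≠ 0)
    (hcc : B c c * B w v' = algebraMap F K s) : False := by
  obtain ⟨hh, hv, hvv, hv', hv'v', hmem, -⟩ := ht.trip
  have hWc : ∀ ω ∈ img (F := F) K h v, B ω c = 0 := fun ω hω => by
    rw [hplane ω hω]
    simp [hcv, hcf]
  obtain ⟨g, hg, hg'⟩ := hs.siegel_mem hv'v' hcv
  refine hs.false_of_translate ht hL hg (fun a ha => ?_) hw (fun hin => ?_) fun ω hω => ?_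
  · obtain ⟨d, rfl⟩ := mem_line.1 ha.2
    simp [hg', siegelMap_apply, hcv, hv'v']
  · have h1 := hWc _ hin
    simp [hg', siegelMap_apply, hWc w hw, hcv] at h1
    rcases h1 with h1 | h1
    · exact he h1
    · rw [h1, zero_mul] at hcc
      exact (map_ne_zero _).2 hs0 hcc.symm
  · have e : B (g w) ω = B w ω - B c c * B w v' / 2 * B v' ω := by
      rw [hg', siegelMap_apply, hWc w hw]
      simp only [map_add, map_sub, map_smul, LinearMap.add_apply, LinearMap.sub_apply, LinearMap.smul_apply,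
        smul_eq_mul, hs.symm c ω, hWc ω hω]
      ring
    rw [e, hcc, map_sub, hs.img_isotropic hh hvv hw hω,
      show algebraMap F K s / 2 * B v' ω = (s / 2) • B v' ω by rw [Algebra.smul_def, map_div₀, map_ofNat],
      map_smul, hs.img_isotropic hh hvv hmem hω, smul_zero, sub_zero]

end CfsgLib.Geo.OrthExt
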