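/-
Rotations, the existence of a maximal triple, and the case of dimension at least four.
-/
import Cfsg.Agent.Lib.Geo.OrthExt.Triple

set_option autoImplicit false

namespace CfsgLib.Geo.OrthExt

open Module LinearMap CfsgLib.Geo.FieldExt
open LinearMap (BilinForm)

variable {F K V : Type*} [Field F] [Fintype F] [Field K] [Algebra F K] [AddCommGroup V] [Module F V] [Module K V]
  [IsScalarTower F K V] [FiniteDimensional F K] [FiniteDimensional K V]
  {B : BilinForm K V} {μ : K →ₗ[F] F} {X : Subgroup (V ≃ₗ[F] V)} (hs : Setup B μ X)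
  {h : V ≃ₗ[F] V} {v v' : V}
include hs

omit [Fintype F] [FiniteDimensional F K] [FiniteDimensional K V] in
/-- The double rotation of an orthogonal pair. -/
theorem Setup.exists_rot {p q : V} (hp : B p p ≠ 0) (hq : B q q ≠ 0) (hpq : B p q = 0) {k : K}
    (hD : B p p + k * k * B q q ≠ 0) :
    ∃ x ∈ X, (∀ (c : K) y, x (c • y) = c • x y) ∧ (∀ z, B p z = 0 → B q z = 0 → x z = z) ∧
      x p = (2 * ((B p p - k * k * B q q) / (B p p + k * k * B q q)) ^ 2 - 1) • p +
        (2 * ((B p p - k * k * B q q) / (B p p + k * k * B q q)) * (2 * k * B p p / (B p p + k * k * B q q))) • q ∧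
      x q = (-(B q q / B p p) *
          (2 * ((B p p - k * k * B q q) / (B p p + k * k * B q q)) * (2 * k * B p p / (B p p + k * k * B q q)))) • p +
        (2 * ((B p p - k * k * B q q) / (B p p + k * k * B q q)) ^ 2 - 1) • q := by
  have hqp : B q p = 0 := by rw [hs.symm, hpq]
  have hb : B (p + k • q) (p + k • q) = B p p + k * k * B q q := by
    simp [hpq, hqp]
    ring
  obtain ⟨x, hx, hx'⟩ := hs.rot_mem (q := p + k • q) hp (by rw [hb]; exact hD)
  refine ⟨x, hx, fun c y => by simp only [hx', map_smul], fun z hz1 hz2 => ?_, ?_, ?_⟩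
  · rw [hs.symm] at hz1 hz2
    have e1 : reflK B p z = z := by simp [reflK_apply, hz1]
    have e2 : reflK B (p + k • q) z = z := by simp [reflK_apply, hz1, hz2]
    rw [hx', e1, e2, e1, e2]
  all_goals
    rw [hx']
    simp only [reflK_apply, hb]
    simp only [map_add, map_sub, map_smul, LinearMap.add_apply, LinearMap.sub_apply,
      LinearMap.smul_apply, smul_eq_mul, hpq, hqp]
    match_scalars <;>
    · generalize hDg : B p p + k * k * B q q = D at hD ⊢
      field_simp
      subst hDg
      ring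

/-- A rotation has many angles. -/
theorem Setup.card_angles [Fintype K] [DecidableEq K] {c c' : K} (hc : c ≠ 0) (hc' : c' ≠ 0) :
    finrank F K < ((Finset.univ.filter fun k : K => c + k * k * c' ≠ 0).image
      fun k => 2 * ((c - k * k * c') / (c + k * k * c')) ^ 2 - 1).card := by
  have h2 := hs.two'
  set f : K → K := fun k => (c - k * k * c') / (c + k * k * c') with hf
  set S := Finset.univ.filter fun k : K => c + k * k * c' ≠ 0 with hS
  set S₀ := S.erase 0 with hS₀
  set T := S.image fun k => 2 * f k ^ 2 - 1 with hT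
  set T₀ := S₀.image fun k => 2 * f k ^ 2 - 1 with hT₀
  have h0S : (0 : K) ∈ S := by simp [hS, hc]
  have hfib : ∀ b, ∀ a ∈ ({k ∈ S₀ | 2 * f k ^ 2 - 1 = b} : Finset K), ∀ a' ∈ ({k ∈ S₀ | 2 * f k ^ 2 - 1 = b} : Finset K),
      ∀ a'' ∈ ({k ∈ S₀ | 2 * f k ^ 2 - 1 = b} : Finset K),
      a' * a' = a * a ∨ a'' * a'' = a * a ∨ a'' * a'' = a' * a' := by
    intro b
    have key : ∀ a ∈ ({k ∈ S₀ | 2 * f k ^ 2 - 1 = b} : Finset K), ∀ a' ∈ ({k ∈ S₀ | 2 * f k ^ 2 - 1 = b} : Finset K),
        f a = f a' → a' * a' = a * a := by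
      intro a ha a' ha' e
      simp only [Finset.mem_filter, hS₀, Finset.mem_erase, hS, Finset.mem_univ, true_and] at ha ha'
      have hda := ha.1.2
      have hda' := ha'.1.2
      rw [hf] at e
      simp only at e
      rw [div_eq_div_iff hda hda'] at e
      have : (2 * c * c') * (a' * a' - a * a) = 0 := by linear_combination e
      rw [mul_eq_zero, sub_eq_zero] at this
      exact this.resolve_left (mul_ne_zero (mul_ne_zero h2 hc) hc')
    intro a ha a' ha' a'' ha''
    have hval : ∀ x ∈ ({k ∈ S₀ | 2 * f k ^ 2 - 1 = b} : Finset K), f x = f a ∨ f x = -f a := by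
      intro x hx
      have h1 := (Finset.mem_filter.1 hx).2
      have h3 := (Finset.mem_filter.1 ha).2
      have : (2 : K) * ((f x - f a) * (f x + f a)) = 0 := by linear_combination h1 - h3
      rcases mul_eq_zero.1 ((mul_eq_zero.1 this).resolve_left h2) with e | e
      · exact Or.inl (sub_eq_zero.1 e)
      · exact Or.inr (eq_neg_of_add_eq_zero_left e)
    rcases hval a' ha' with e | e
    · exact Or.inl (key a ha a' ha' e.symm)
    rcases hval a'' ha'' with e' | e'
    · exact Or.inr (Or.inl (key a ha a'' ha'' e'.symm))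
    · exact Or.inr (Or.inr (key a' ha' a'' ha'' (e.trans e'.symm)))
  have hle : S₀.card ≤ 4 * T₀.card := by
    refine Finset.card_le_mul_card_image S₀ 4 fun b hb => ?_
    set s := ({k ∈ S₀ | 2 * f k ^ 2 - 1 = b} : Finset K)
    rcases s.eq_empty_or_nonempty with e | ⟨a, ha⟩
    · rw [e]; simp
    have hsq : ∀ x y : K, x * x = y * y → x = y ∨ x = -y := fun x y e => mul_self_eq_mul_self_iff.1 e
    by_cases hex : ∃ a' ∈ s, a' * a' ≠ a * a
    · obtain ⟨a', ha', hne⟩ := hex
      refine (Finset.card_le_card (t := {a, -a, a', -a'}) fun x hx => ?_).trans Finset.card_le_four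
      rcases hfib b a ha a' ha' x hx with e | e | e
      · exact absurd e hne
      · rcases hsq x a e with r | r <;> simp [r]
      · rcases hsq x a' e with r | r <;> simp [r]
    · push Not at hex
      refine (Finset.card_le_card (t := {a, -a}) fun x hx => ?_).trans (Finset.card_le_two.trans (by norm_num))
      rcases hsq x a (hex x hx) with r | r <;> simp [r]
  have hbad : (Finset.univ.filter fun k : K => ¬ (c + k * k * c' ≠ 0)).card ≤ 2 := by
    rcases (Finset.univ.filter fun k : K => ¬ (c + k * k * c' ≠ 0)).eq_empty_or_nonempty with e | ⟨a, ha⟩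
    · rw [e]; simp
    refine (Finset.card_le_card (t := {a, -a}) fun x hx => ?_).trans Finset.card_le_two
    simp only [Finset.mem_filter, Finset.mem_univ, true_and, ne_eq, not_not] at ha hx
    have : c' * (x * x - a * a) = 0 := by linear_combination hx - ha
    rw [mul_eq_zero, sub_eq_zero] at this
    rcases mul_self_eq_mul_self_iff.1 (this.resolve_left hc') with r | r <;> simp [r]
  have hS₀card : S₀.card + 1 = S.card := Finset.card_erase_add_one h0S
  have hScard := Finset.card_filter_add_card_filter_not (s := (Finset.univ : Finset K)) (fun k : K => c + k * k * c' ≠ 0)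
  have hT1 : T₀.card + 1 ≤ T.card := by
    have h1 : (1 : K) ∉ T₀ := by
      simp only [hT₀, hS₀, Finset.mem_image, Finset.mem_erase, hS, Finset.mem_filter, Finset.mem_univ, true_and,
        not_exists, not_and]
      intro k hk e
      have hd := hk.2
      simp only [hf] at e
      have e1 : ((c - k * k * c') / (c + k * k * c')) ^ 2 = 1 :=
        mul_left_cancel₀ h2 (by linear_combination e)
      rw [div_pow, div_eq_one_iff_eq (pow_ne_zero 2 hd)] at e1
      have : (8 * c * c') * (k * k) = 0 := by linear_combination -2 * e1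
      rw [mul_eq_zero] at this
      have h8 : (8 : K) ≠ 0 := by
        rw [show (8 : K) = 2 * 2 * 2 by norm_num]
        exact mul_ne_zero (mul_ne_zero h2 h2) h2
      exact hk.1 (mul_self_eq_zero.1 (this.resolve_left (mul_ne_zero (mul_ne_zero h8 hc) hc')))
    rw [← Finset.card_insert_of_notMem h1]
    refine Finset.card_le_card (Finset.insert_subset ?_ (Finset.image_subset_image (Finset.erase_subset _ _)))
    exact Finset.mem_image.2 ⟨0, h0S, by simp only [hf]; simp [hc]; norm_num⟩
  have hQ : Fintype.card K = Fintype.card F ^ finrank F K := Module.card_eq_pow_finrank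
  have hF : 3 ≤ Fintype.card F := by
    by_contra! h
    have h1 := Fintype.one_lt_card (α := F)
    have h3 : Fintype.card F = 2 := by omega
    have := FiniteField.cast_card_eq_zero F
    rw [h3, Nat.cast_ofNat] at this
    exact hs.two this
  have h3r : 4 * finrank F K ≤ 3 ^ finrank F K := by
    have : ∀ n, 2 ≤ n → 4 * n ≤ 3 ^ n := by
      intro n hn
      induction n, hn using Nat.le_induction with
      | base => norm_num
      | succ n hn ih => rw [pow_succ]; omega
    exact this _ hs.prime.two_le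
  have hQ3 := h3r.trans (Nat.pow_le_pow_left hF (finrank F K))
  rw [Finset.card_univ, hQ] at hScard
  change finrank F K < T.card
  have : S.card + 2 ≥ Fintype.card F ^ finrank F K := by
    rw [← hScard, hS]
    exact Nat.add_le_add_left hbad _
  omega

/-- A triple exists unless everything is semilinear. -/
theorem Setup.exists_trip (hL : LinesSemi B X) {g : V ≃ₗ[F] V} (hg : g ∈ X)
    (hns : ¬ ∃ σ : K →ₐ[F] K, ∀ (k : K) y, g (k • y) = σ k • g y) : ∃ h v v', STrip B X h v v' := by
  classical
  haveI : Finite K := Module.finite_of_finite F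
  haveI : Fintype K := Fintype.ofFinite K
  haveI : Module.Finite F V := Module.Finite.trans K V
  obtain ⟨u, hu0, hu, k₁, hk₁⟩ : ∃ u : V, u ≠ 0 ∧ B u u = 0 ∧ ∃ k : K, g (k • u) ∉ line (F := F) K (g u) := by
    by_contra! hall
    exact hns (hs.semilinear_of_lines hL hg fun u hu0 hu k => hall u hu0 hu k)
  set W := img (F := F) K g u with hW
  have hgu : g u ∈ W := mem_img.2 ⟨1, by rw [one_smul]⟩
  have hgu0 : g u ≠ 0 := g.map_ne_zero_iff.2 hu0
  have hnl : ∀ z, W ≠ line K z := fun z e => hk₁ (by
    rw [line_eq (e ▸ hgu) hgu0, ← e]; exact mem_img.2 ⟨k₁, rfl⟩)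
  by_cases hsing : ∃ z ∈ W, z ≠ 0 ∧ B z z = 0
  · obtain ⟨z, hz, hz0, hzz⟩ := hsing
    exact ⟨g, u, z, hg, hu0, hu, hz0, hzz, hz, hnl z⟩
  push Not at hsing
  set z := g u with hz_def
  have hzz : B z z ≠ 0 := hsing z hgu hgu0
  obtain ⟨w, hwW, hw0, hzw⟩ : ∃ w ∈ W, w ≠ 0 ∧ B z w = 0 := by
    let ψ : W →ₗ[F] K := ((B z).restrictScalars F).comp W.subtype
    have hle : LinearMap.range ψ ≤ LinearMap.ker μ := by
      rintro _ ⟨ω, rfl⟩
      exact hs.img_isotropic hg hu hgu ω.2
    have h1 := LinearMap.finrank_range_add_finrank_ker ψ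
    have h2 := LinearMap.finrank_range_add_finrank_ker μ
    have h3 : 0 < finrank F (LinearMap.range μ) := by
      rw [Module.finrank_pos_iff_exists_ne_zero]
      exact ⟨⟨μ 1, LinearMap.mem_range_self μ 1⟩, fun e => one_ne_zero (hs.mu_one.symm.trans (congrArg Subtype.val e))⟩
    have h4 := Submodule.finrank_mono hle
    have h5 : finrank F W = finrank F K :=
      (Submodule.equivMapOfInjective (g : V →ₗ[F] V) g.injective _).finrank_eq.symm.trans (finrank_line hu0)
    obtain ⟨⟨w, hw⟩, hwk, hw0⟩ := (Submodule.ne_bot_iff (LinearMap.ker ψ)).1 (fun e => by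
      rw [e, finrank_bot] at h1
      omega)
    exact ⟨w, hw, fun e => hw0 (Subtype.ext e), LinearMap.mem_ker.1 hwk⟩
  have hww : B w w ≠ 0 := hsing w hwW hw0
  have hwz : B w z = 0 := by rw [hs.symm, hzw]
  obtain ⟨a, ha, hza, hwa⟩ := hs.exists_aniso_perp_pair hzz hww hzw
  by_contra hnone
  push Not at hnone
  have key : ∀ k : K, B w w + k * k * B a a ≠ 0 → ∃ e : K, (∃ σ : K →ₐ[F] K, σ (mem_img.1 hwW).choose = e) ∧
      B (g (e • u)) w / B w w = 2 * ((B w w - k * k * B a a) / (B w w + k * k * B a a)) ^ 2 - 1 := by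
    intro k hk
    obtain ⟨x, hx, -, hxfix, hxw, -⟩ := hs.exists_rot hww ha hwa hk
    have hxz : x z = z := hxfix z hwz (by rw [hs.symm]; exact hza)
    set h' : V ≃ₗ[F] V := g⁻¹ * x * g
    have hh' : h' ∈ X := X.mul_mem (X.mul_mem (X.inv_mem hg) hx) hg
    have happ : ∀ y, h' y = g.symm (x (g y)) := fun y => rfl
    have hfix : h' u = u := by rw [happ, ← hz_def, hxz, hz_def, g.symm_apply_apply]
    have hstab : ∀ c : K, h' (c • u) ∈ line (F := F) K u := by
      intro c
      by_contra hc
      exact hnone h' u u ⟨hh', hu0, hu, hu0, hu, mem_img.2 ⟨1, by rw [one_smul, hfix]⟩,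
        fun e => hc (e ▸ mem_img.2 ⟨c, rfl⟩)⟩
    obtain ⟨σ, hσ⟩ := hL u hu0 hu h' hh' hstab
    set c₀ := (mem_img.1 hwW).choose
    have hc₀ : g (c₀ • u) = w := (mem_img.1 hwW).choose_spec
    refine ⟨σ c₀, ⟨σ, rfl⟩, ?_⟩
    have e : g (σ c₀ • u) = x w := by
      have h1 := hσ c₀
      rw [hfix, happ, g.symm_apply_eq, hc₀] at h1
      exact h1.symm
    rw [e, hxw]
    simp [hs.symm a w, hwa, hww]
  choose! e he₁ he₂ using key
  have hcard := hs.card_angles (c := B w w) (c' := B a a) hww ha
  set S := Finset.univ.filter fun k : K => B w w + k * k * B a a ≠ 0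
  have h1 : (S.image fun k => 2 * ((B w w - k * k * B a a) / (B w w + k * k * B a a)) ^ 2 - 1).card ≤
      (S.image e).card := by
    rw [Finset.image_congr (g := fun k => B (g (e k • u)) w / B w w) (fun k hk =>
      (he₂ k (Finset.mem_filter.1 hk).2).symm), show (fun k => B (g (e k • u)) w / B w w) =
      (fun y => B (g (y • u)) w / B w w) ∘ e from rfl, ← Finset.image_image]
    exact Finset.card_image_le
  have h2 := card_images_le hs.prime (mem_img.1 hwW).choose (S.image e) fun x hx => by
    obtain ⟨k, hk, rfl⟩ := Finset.mem_image.1 hx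
    exact he₁ k (Finset.mem_filter.1 hk).2
  omega

omit [Fintype F] [FiniteDimensional F K] [FiniteDimensional K V] in
/-- A maximal triple. -/
theorem Setup.exists_maxT [Module.Finite F V] (hex : ∃ h v v', STrip B X h v v') : ∃ h v v', MaxT B X h v v' := by
  classical
  obtain ⟨h₀, v₀, v₀', ht₀⟩ := hex
  let P : ℕ → Prop := fun n => ∃ h v v', STrip B X h v v' ∧
    finrank F (img (F := F) K h v ⊓ line K v' : Submodule F V) = n
  have hle : ∀ n, P n → n ≤ finrank F V := by
    rintro n ⟨h, v, v', -, rfl⟩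
    exact Submodule.finrank_le _
  have hP : P (Nat.findGreatest P (finrank F V)) :=
    Nat.findGreatest_spec (hle _ ⟨_, _, _, ht₀, rfl⟩) ⟨_, _, _, ht₀, rfl⟩
  obtain ⟨h, v, v', ht, he⟩ := hP
  exact ⟨h, v, v', ht, fun g u u' hg => he.symm ▸ Nat.le_findGreatest (hle _ ⟨g, u, u', hg, rfl⟩) ⟨g, u, u', hg, rfl⟩⟩

omit [Fintype F] in
theorem Setup.exists_outside [Module.Finite F V] (ht : STrip B X h v v') :
    ∃ w ∈ img (F := F) K h v, w ∉ line (F := F) K v' := by
  by_contra! hall
  refine ht.not_line (Submodule.eq_of_le_of_finrank_eq hall ?_)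
  rw [finrank_line ht.ne', img, ← (Submodule.equivMapOfInjective (h : V →ₗ[F] V) h.injective _).finrank_eq,
    finrank_line ht.ne]

/-- The case of dimension at least four. -/
theorem Setup.false_of_four (ht : MaxT B X h v v') (hL : LinesSemi B X) (h4 : 4 ≤ finrank K V) : False := by
  classical
  haveI : Finite K := Module.finite_of_finite F
  haveI : Fintype K := Fintype.ofFinite K
  haveI : Module.Finite F V := Module.Finite.trans K V
  have h2 := hs.two'
  obtain ⟨hh, hv, hvv, hv', hv'v', hmem, -⟩ := ht.trip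
  obtain ⟨w, hw, hwn⟩ := hs.exists_outside ht.trip
  set e := B w v' with he_def
  have he : e ≠ 0 := fun e0 => hs.false_of_perp ht hL hw hwn e0
  set f₀ := e⁻¹ • w - (B w w / (2 * (e * e))) • v' with hf₀
  have hvf : B v' f₀ = 1 := by
    simp [hf₀, hv'v', hs.symm v' w, ← he_def, he]
  have hff : B f₀ f₀ = 0 := by
    simp [hf₀, hv'v', hs.symm v' w, ← he_def]
    field_simp
    ring
  have hwe : w = (B w w / (2 * e)) • v' + e • f₀ := by
    rw [hf₀, smul_sub, smul_smul, smul_smul, mul_inv_cancel₀ he, one_smul]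
    match_scalars <;> field_simp <;> ring
  have hperp : ∀ p q : V, B p p ≠ 0 → B q q ≠ 0 → B p q = 0 → B v' p = 0 → B f₀ p = 0 → B v' q = 0 → B f₀ q = 0 →
      ∀ ω ∈ img (F := F) K h v, B ω p = 0 := by
    intro p q hp hq hpq hvp hfp hvq hfq ω hω
    obtain ⟨k, hk0, hk⟩ : ∃ k : K, k ≠ 0 ∧ B p p + k * k * B q q ≠ 0 := by
      by_cases h : B p p + B q q = 0
      · obtain ⟨k, -, hk⟩ := Finset.exists_mem_notMem_of_card_lt_card (s := ({0, 1, -1} : Finset K))
          (t := Finset.univ) (lt_of_le_of_lt Finset.card_le_three (by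
            rw [Finset.card_univ, Module.card_eq_pow_finrank (K := F) (V := K)]
            have h1 := Fintype.one_lt_card (α := F)
            have h2' := hs.prime.two_le
            exact lt_of_lt_of_le (show 3 < 2 ^ 2 by norm_num)
              ((Nat.pow_le_pow_left h1 2).trans (Nat.pow_le_pow_right (by omega) h2'))))
        simp only [Finset.mem_insert, Finset.mem_singleton, not_or] at hk
        refine ⟨k, hk.1, fun e1 => ?_⟩
        have : B q q * ((k - 1) * (k + 1)) = 0 := by linear_combination e1 - h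
        rcases mul_eq_zero.1 ((mul_eq_zero.1 this).resolve_left hq) with r | r
        · exact hk.2.1 (sub_eq_zero.1 r)
        · exact hk.2.2 (eq_neg_of_add_eq_zero_left r)
      · exact ⟨1, one_ne_zero, by simpa using h⟩
    obtain ⟨x, hx, hxl, hxfix, hxp, hxq⟩ := hs.exists_rot hp hq hpq hk
    have hxv : x v' = v' := hxfix v' (by rw [hs.symm, hvp]) (by rw [hs.symm, hvq])
    have hxf : x f₀ = f₀ := hxfix f₀ (by rw [hs.symm, hfp]) (by rw [hs.symm, hfq])
    have hxw : x w = w := by rw [hwe, map_add, hxl, hxl, hxv, hxf]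
    have hst := hs.stab_of_fix ht hx (fun a ha => by
      obtain ⟨c, rfl⟩ := mem_line.1 ha.2
      rw [hxl, hxv]) hw hwn (by rw [hxw]; exact hw)
    -- decompose
    set a := B ω p / B p p with ha'
    set b := B ω q / B q q
    set z := ω - a • p - b • q with hz
    have hzp : B p z = 0 := by simp [hz, a, hpq, hp, hs.symm p ω]
    have hzq : B q z = 0 := by simp [hz, b, hs.symm q p, hpq, hq, hs.symm q ω]
    have hω' : ω = a • p + b • q + z := by rw [hz]; abel
    set φ := 2 * ((B p p - k * k * B q q) / (B p p + k * k * B q q)) ^ 2 - 1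
    set ψ := 2 * ((B p p - k * k * B q q) / (B p p + k * k * B q q)) * (2 * k * B p p / (B p p + k * k * B q q))
    have hxω : x ω - ω = (a * (φ - 1) - B q q / B p p * ψ * b) • p + (a * ψ + b * (φ - 1)) • q := by
      conv_lhs => rw [hω', map_add, map_add, hxl, hxl, hxp, hxq, hxfix z hzp hzq]
      match_scalars <;> ring
    have hin : x ω - ω ∈ img (F := F) K h v :=
      sub_mem (hst ▸ Submodule.mem_map_of_mem hω) hω
    have hzero : x ω - ω = 0 := by
      by_cases hl : x ω - ω ∈ line (F := F) K v'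
      · obtain ⟨c, hc⟩ := mem_line.1 hl
        have h1 := congrArg (fun y => B f₀ y) (hc.trans hxω)
        simp [hs.symm f₀ v', hvf, hfp, hfq] at h1
        rw [← hc, h1, zero_smul]
      · exact (hs.false_of_perp ht hL hin hl (by rw [hxω]; simp [hs.symm p v', hs.symm q v', hvp, hvq])).elim
    rw [hzero] at hxω
    have e1 := congrArg (fun y => B p y) hxω
    have e2 := congrArg (fun y => B q y) hxω
    simp only [map_zero, map_add, map_smul, smul_eq_mul, hpq, hs.symm q p, mul_zero, add_zero, zero_add] at e1 e2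
    have e1' : a * (φ - 1) - B q q / B p p * ψ * b = 0 := (mul_eq_zero.1 e1.symm).resolve_right hp
    have e2' : a * ψ + b * (φ - 1) = 0 := (mul_eq_zero.1 e2.symm).resolve_right hq
    have hφ : φ - 1 ≠ 0 := by
      intro e0
      have e1 : ((B p p - k * k * B q q) / (B p p + k * k * B q q)) ^ 2 = 1 :=
        mul_left_cancel₀ h2 (by simp only [φ] at e0; linear_combination e0)
      rw [div_pow, div_eq_one_iff_eq (pow_ne_zero 2 hk)] at e1
      have : (8 * B p p * B q q) * (k * k) = 0 := by linear_combination -2 * e1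
      have h8 : (8 : K) ≠ 0 := by
        rw [show (8 : K) = 2 * 2 * 2 by norm_num]
        exact mul_ne_zero (mul_ne_zero h2 h2) h2
      exact mul_ne_zero (mul_ne_zero (mul_ne_zero h8 hp) hq) (mul_ne_zero hk0 hk0) this
    have hid : (φ - 1) ^ 2 + B q q / B p p * ψ ^ 2 = -(2 * (φ - 1)) := by
      have hfg : ((B p p - k * k * B q q) / (B p p + k * k * B q q)) ^ 2 +
          B q q / B p p * (2 * k * B p p / (B p p + k * k * B q q)) ^ 2 = 1 := by
        generalize hDg : B p p + k * k * B q q = D at hk ⊢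
        field_simp
        subst hDg
        ring
      simp only [φ, ψ]
      linear_combination 4 * ((B p p - k * k * B q q) / (B p p + k * k * B q q)) ^ 2 * hfg
    clear_value a b φ ψ
    have : a * (-(2 * (φ - 1))) = 0 := by
      rw [← hid]
      linear_combination (φ - 1) * e1' + (B q q / B p p * ψ) * e2'
    have ha : a = 0 := by simpa [h2, hφ] using this
    simpa [ha', hp] using ha
  obtain ⟨p₀, hp₀, hvp₀, hfp₀⟩ := hs.exists_aniso_perp_hyp hv'v' hff hvf
  obtain ⟨q₀, hq₀, hvq₀, hfq₀, hpq₀⟩ := hs.exists_aniso_perp_three hv'v' hff hvf hp₀ hvp₀ hfp₀ h4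
  -- all images lie in the plane
  have hplane : ∀ ω ∈ img (F := F) K h v, ω = B ω f₀ • v' + B ω v' • f₀ := by
    intro ω hω
    set m := ω - (B ω f₀ • v' + B ω v' • f₀) with hm
    have hmv : B v' m = 0 := by simp [hm, hv'v', hvf, hs.symm v' ω]
    have hmf : B f₀ m = 0 := by simp [hm, hff, hs.symm f₀ v', hvf, hs.symm f₀ ω]
    have hall : ∀ p, B p p ≠ 0 → B v' p = 0 → B f₀ p = 0 → B m p = 0 := by
      intro p hp hvp hfp
      obtain ⟨q, hq, hvq, hfq, hpq⟩ := hs.exists_aniso_perp_three hv'v' hff hvf hp hvp hfp h4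
      simp [hm, hperp p q hp hq hpq hvp hfp hvq hfq ω hω, hvp, hfp]
    rw [← sub_eq_zero]
    refine hs.nondeg.1 m fun y => ?_
    set y' := y - (B y f₀ • v' + B y v' • f₀) with hy'
    have hyv : B v' y' = 0 := by simp [hy', hv'v', hvf, hs.symm v' y]
    have hyf : B f₀ y' = 0 := by simp [hy', hff, hs.symm f₀ v', hvf, hs.symm f₀ y]
    have e : B m y = B m y' := by simp [hy', hs.symm m v', hs.symm m f₀, hmv, hmf]
    rw [e]
    by_cases hyy : B y' y' = 0
    · have h1 : ∀ t : K, B m (p₀ + t • y') = t * B m y' := fun t => by simp [hall p₀ hp₀ hvp₀ hfp₀]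
      by_cases hpy : B p₀ y' = 0
      · have := hall (p₀ + (1 : K) • y') (by rw [hs.self_add]; simp [hyy, hpy, hp₀]) (by simp [hvp₀, hyv])
          (by simp [hfp₀, hyf])
        rwa [h1, one_mul] at this
      · by_cases hp1 : B p₀ p₀ + 2 * B p₀ y' = 0
        · have := hall (p₀ + (-1 : K) • y') (by
            rw [hs.self_add]
            simp [hyy]
            intro e0
            have : (2 : K) * B p₀ p₀ = 0 := by linear_combination hp1 + e0
            exact hp₀ ((mul_eq_zero.1 this).resolve_left h2)) (by simp [hvp₀, hyv]) (by simp [hfp₀, hyf])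
          rw [h1, neg_one_mul, neg_eq_zero] at this
          exact this
        · have := hall (p₀ + (1 : K) • y') (by rw [hs.self_add]; simpa [hyy] using hp1) (by simp [hvp₀, hyv])
            (by simp [hfp₀, hyf])
          rwa [h1, one_mul] at this
    · exact hall y' hyy hyv hyf
  obtain ⟨a, b, hab⟩ := hs.exists_value hp₀ hq₀ hpq₀ (2 / e)
  refine hs.false_of_planar ht hL hvf hff hplane (c := a • p₀ + b • q₀) hw he (by simp [hvp₀, hvq₀])
    (by simp [hfp₀, hfq₀]) hs.two ?_
  rw [hab, ← he_def, div_mul_cancel₀ _ he, map_ofNat]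

end CfsgLib.Geo.OrthExt
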