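/-
Dimension three: a maximal triple meets in at least two dimensions, and cases with few equations.
-/
import Cfsg.Agent.Lib.Geo.OrthExt.Seed
import Cfsg.Agent.Lib.Geo.OrthExt.FieldFacts

set_option autoImplicit false

namespace CfsgLib.Geo.OrthExt

open Module LinearMap CfsgLib.Geo.FieldExt
open LinearMap (BilinForm)

variable {F K V : Type*} [Field F] [Fintype F] [Field K] [Algebra F K] [AddCommGroup V] [Module F V] [Module K V]
  [IsScalarTower F K V] [FiniteDimensional F K] [FiniteDimensional K V]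
  {B : BilinForm K V} {μ : K →ₗ[F] F} {X : Subgroup (V ≃ₗ[F] V)} (hs : Setup B μ X)
  {h : V ≃ₗ[F] V} {v v' : V}
include hs

omit [Fintype F] [FiniteDimensional F K] in
/-- Coordinates in dimension three. -/
theorem Setup.decomp (h3 : finrank K V = 3) {u f y : V} (hu : B u u = 0) (hf : B f f = 0) (huf : B u f = 1)
    (hy : B y y ≠ 0) (huy : B u y = 0) (hfy : B f y = 0) (z : V) :
    z = B z f • u + B z u • f + (B z y / B y y) • y := by
  by_contra hne
  set m := z - (B z f • u + B z u • f + (B z y / B y y) • y) with hm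
  have hm0 : m ≠ 0 := fun e => hne (sub_eq_zero.1 e)
  have hmu : B u m = 0 := by simp [hm, hu, huf, huy, hs.symm u z]
  have hmf : B f m = 0 := by simp [hm, hf, hs.symm f u, huf, hfy, hs.symm f z]
  have hmy : B y m = 0 := by simp [hm, hs.symm y u, hs.symm y f, huy, hfy, hs.symm y z, hy]
  have hli : LinearIndependent K ![u, f, y, m] := by
    rw [Fintype.linearIndependent_iff]
    intro c hc
    rw [Fin.sum_univ_four] at hc
    have h1 := congrArg (fun x => B x u) hc
    have h2 := congrArg (fun x => B x f) hc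
    have h4 := congrArg (fun x => B x y) hc
    simp [hu, huf, huy, hs.symm f u, hs.symm y u, hs.symm m u, hmu] at h1
    simp [hf, huf, hfy, hs.symm y f, hs.symm m f, hmf] at h2
    simp [hy, huy, hfy, hs.symm m y, hmy] at h4
    intro i
    fin_cases i
    · simpa using h2
    · simpa using h1
    · simpa using h4
    · simp [h1, h2, h4, hm0] at hc
      simpa using hc
  have := hli.fintype_card_le_finrank
  simp [h3] at this

variable (ht : MaxT B X h v v') (hL : LinesSemi B X) (h3 : finrank K V = 3)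

omit [Fintype F] [FiniteDimensional K V] in
theorem Setup.finrank_img_eq (hv : v ≠ 0) : finrank F (img (F := F) K h v) = finrank F K :=
  (Submodule.equivMapOfInjective (h : V →ₗ[F] V) h.injective _).finrank_eq.symm.trans (finrank_line hv)

include ht hL

/-- Elements fixing a large intersection and stabilising the image fix it. -/
theorem Setup.fix_image (h2a : 2 ≤ finrank F (img (F := F) K h v ⊓ line K v' : Submodule F V)) {x : V ≃ₗ[F] V}
    (hx : x ∈ X) (hA : ∀ a ∈ img (F := F) K h v ⊓ line K v', x a = a)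
    (hst : (img (F := F) K h v).map (x : V →ₗ[F] V) = img K h v) {ω : V} (hω : ω ∈ img (F := F) K h v) : x ω = ω := by
  obtain ⟨hh, hv, hvv, hv', hv'v', hmem, -⟩ := ht.trip
  obtain ⟨z, hz⟩ := mem_img.1 hmem
  have hz0 : z ≠ 0 := fun e => hv' (by rw [← hz, e, zero_smul, map_zero])
  obtain ⟨σ, hσ⟩ := hs.semi_of_stab ht hL hx hst hz0 (s := 1)
    (by rw [one_smul, hz]; exact hA v' ⟨hmem, self_mem_line v'⟩)
  obtain ⟨a, ha, han⟩ : ∃ a ∈ img (F := F) K h v ⊓ line K v', a ∉ Submodule.span F {v'} := by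
    by_contra! hall
    haveI : Module.Finite F V := Module.Finite.trans K V
    have := (Submodule.finrank_mono hall).trans (finrank_span_singleton hv').le
    omega
  obtain ⟨c, hc⟩ := mem_img.1 ha.1
  have hcF : c / z ∉ Set.range (algebraMap F K) := by
    rintro ⟨s, hs'⟩
    refine han (Submodule.mem_span_singleton.2 ⟨s, ?_⟩)
    rw [← hc, ← hz, ← map_smul, ← smul_assoc, Algebra.smul_def, hs', div_mul_cancel₀ _ hz0]
  have hfix : σ (c / z) = c / z := by
    have h1 := hσ (c / z)
    rw [div_mul_cancel₀ _ hz0, hc, hA a ha, one_smul, ← hc] at h1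
    exact mul_right_cancel₀ hz0 ((smul_left_injective K hv (h.injective h1.symm)).trans (div_mul_cancel₀ _ hz0).symm)
  obtain ⟨d, rfl⟩ := mem_img.1 hω
  have h1 := hσ (d / z)
  rwa [algHom_eq_id hs.prime hcF hfix, div_mul_cancel₀ _ hz0, one_smul] at h1

include h3

/-- Images in a plane are impossible. -/
theorem Setup.false_of_planar_three {f₀ y : V} (hvf : B v' f₀ = 1) (hff : B f₀ f₀ = 0) (hy : B y y ≠ 0)
    (hvy : B v' y = 0) (hfy : B f₀ y = 0) (hW : ∀ ω ∈ img (F := F) K h v, B ω y = 0) : False := by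
  haveI : Finite K := Module.finite_of_finite F
  haveI : Module.Finite F V := Module.Finite.trans K V
  have hr2 := hs.three h3
  obtain ⟨w, hw, hwn⟩ := hs.exists_outside ht.trip
  have he : B w v' ≠ 0 := fun e0 => hs.false_of_perp ht hL hw hwn e0
  obtain ⟨s, hs0, hsq⟩ : ∃ s : F, s ≠ 0 ∧ IsSquare (algebraMap F K s * (B y y * B w v')) := by
    by_cases hc : IsSquare (B y y * B w v')
    · exact ⟨1, one_ne_zero, by rwa [map_one, one_mul]⟩
    · obtain ⟨s, hs'⟩ := FiniteField.exists_nonsquare (F := F) (fun e => hs.two (by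
        haveI := ringChar.of_eq e
        exact CharTwo.two_eq_zero))
      exact ⟨s, fun e => hs' (e ▸ IsSquare.zero),
        isSquare_mul_of_not (not_isSquare_algebraMap hs.prime hr2 hs.two hs') hc⟩
  obtain ⟨t, ht'⟩ := hsq
  refine hs.false_of_planar ht hL hvf hff (fun ω hω => ?_) (c := (t / (B y y * B w v')) • y) hw he
    (by simp [hvy]) (by simp [hfy]) hs0 ?_
  · conv_lhs => rw [hs.decomp h3 ht.trip.sing' hff hvf hy hvy hfy ω]
    simp [hW ω hω]
  · simp only [map_smul, LinearMap.smul_apply, smul_eq_mul]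
    field_simp
    linear_combination -ht'

/-- The intersection has dimension at least two. -/
theorem Setup.two_le_inter : 2 ≤ finrank F (img (F := F) K h v ⊓ line K v' : Submodule F V) := by
  classical
  haveI : Finite K := Module.finite_of_finite F
  haveI : Module.Finite F V := Module.Finite.trans K V
  by_contra! hlt
  have hr2 := hs.three h3
  have h2 := hs.two'
  obtain ⟨hh, hv, hvv, hv', hv'v', hmem, hnl⟩ := ht.trip
  set W := img (F := F) K h v with hW
  obtain ⟨w₀, hw₀, hw₀n⟩ := hs.exists_outside ht.trip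
  have he₀ : B w₀ v' ≠ 0 := fun e0 => hs.false_of_perp ht hL hw₀ hw₀n e0
  obtain ⟨z, hzW, hzz, hzn⟩ : ∃ z ∈ W, B z z ≠ 0 ∧ z ∉ line (F := F) K v' := by
    have hn : ∀ z, B z z ≠ 0 → z ∉ line (F := F) K v' := fun z hz hm => by
      obtain ⟨c, rfl⟩ := mem_line.1 hm
      exact hz (by simp [hv'v'])
    by_cases h0 : B w₀ w₀ = 0
    · have : B (w₀ + v') (w₀ + v') ≠ 0 := by
        rw [hs.self_add, h0, hv'v', zero_add, zero_add]
        exact mul_ne_zero h2 he₀
      exact ⟨_, W.add_mem hw₀ hmem, this, hn _ this⟩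
    · exact ⟨w₀, hw₀, h0, hn _ h0⟩
  obtain ⟨w, hwW, hw0, hzw⟩ : ∃ w ∈ W, w ≠ 0 ∧ B z w = 0 := by
    let ψ : W →ₗ[F] K := ((B z).restrictScalars F).comp W.subtype
    have hle : LinearMap.range ψ ≤ LinearMap.ker μ := by
      rintro _ ⟨ω, rfl⟩
      exact hs.img_isotropic hh hvv hzW ω.2
    have h1 := LinearMap.finrank_range_add_finrank_ker ψ
    have h4 := LinearMap.finrank_range_add_finrank_ker μ
    have h5 : 0 < finrank F (LinearMap.range μ) := by
      rw [Module.finrank_pos_iff_exists_ne_zero]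
      exact ⟨⟨μ 1, LinearMap.mem_range_self μ 1⟩, fun e => one_ne_zero (hs.mu_one.symm.trans (congrArg Subtype.val e))⟩
    have h6 := Submodule.finrank_mono hle
    have h7 := hs.finrank_img_eq (h := h) hv
    rw [← hW] at h7
    obtain ⟨⟨w, hw⟩, hwk, hw0⟩ := (Submodule.ne_bot_iff (LinearMap.ker ψ)).1 (fun e => by
      rw [e, finrank_bot] at h1
      omega)
    exact ⟨w, hw, fun e => hw0 (Subtype.ext e), LinearMap.mem_ker.1 hwk⟩
  have hwz : B w z = 0 := by rw [hs.symm, hzw]
  by_cases hww : B w w = 0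
  · by_cases hwl : w ∈ line (F := F) K v'
    · obtain ⟨c, rfl⟩ := mem_line.1 hwl
      refine hs.false_of_perp ht hL hzW hzn ?_
      simpa [(smul_ne_zero_iff.1 hw0).1] using hzw
    · have hne : img (F := F) K h v ≠ line K w := fun e => hwl (by
        rw [line_eq (e ▸ hmem : v' ∈ line (F := F) K w) hv']
        exact self_mem_line w)
      have ht' : MaxT B X h v w := ⟨⟨hh, hv, hvv, hw0, hww, hwW, hne⟩, fun g u u' hg => by
        refine (ht.max g u u' hg).trans ?_
        have : 0 < finrank F (img (F := F) K h v ⊓ line K w : Submodule F V) := by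
          rw [Module.finrank_pos_iff_exists_ne_zero]
          exact ⟨⟨w, hwW, self_mem_line w⟩, fun e => hw0 (congrArg Subtype.val e)⟩
        have hlt' : finrank F (img (F := F) K h v ⊓ line K v' : Submodule F V) < 2 := hlt
        omega⟩
      refine hs.false_of_perp ht' hL hzW (fun hm => ?_) hzw
      obtain ⟨c, rfl⟩ := mem_line.1 hm
      exact hzz (by simp [hww])
  obtain ⟨a, ha, hza, hwa⟩ := hs.exists_aniso_perp_pair hzz hww hzw
  obtain ⟨c₀, hc₀⟩ := mem_img.1 hzW
  have hc₀0 : c₀ ≠ 0 := fun e => hzz (by simp [← hc₀, e])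
  obtain ⟨c₁, hc₁⟩ := mem_img.1 hwW
  have hc₁0 : c₁ / c₀ ≠ 0 := div_ne_zero (fun e => hww (by simp [← hc₁, e])) hc₀0
  have huniq : ∀ {a b : K}, h (a • v) = h (b • v) → a = b := fun e => smul_left_injective K hv (h.injective e)
  have hli : LinearIndependent F ![z, w] := by
    rw [LinearIndependent.pair_iff]
    intro s t e
    have h1 := congrArg (fun q => B z q) e
    have h4 := congrArg (fun q => B w q) e
    rw [← algebraMap_smul K s z, ← algebraMap_smul K t w] at h1 h4
    simp [hzw, hwz, hzz, hww] at h1 h4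
    exact ⟨h1, h4⟩
  -- stabilising involutions
  have hinv : ∀ x ∈ X, ∀ ε δ : F, x z = ε • z → x w = δ • w → ε * ε = 1 →
      W.map (x : V →ₗ[F] V) = W ∧ ∃ σ : K →ₐ[F] K, δ • w = ε • h ((σ (c₁ / c₀) * c₀) • v) ∧
        ∀ c : K, x (h ((c * c₀) • v)) = ε • h ((σ c * c₀) • v) := by
    intro x hx ε δ hxz hxw hεε
    have hst : W.map (x : V →ₗ[F] V) = W := by
      refine hs.stab_of_lt ht hx ?_
      have h1 : 2 ≤ finrank F (W.map (x : V →ₗ[F] V) ⊓ W : Submodule F V) := by
        have hli' : LinearIndependent F ![x z, x w] := by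
          rw [LinearIndependent.pair_iff]
          intro s t e
          rw [← x.map_smul, ← x.map_smul, ← map_add, x.map_eq_zero_iff] at e
          exact LinearIndependent.pair_iff.1 hli s t e
        refine le_trans ?_ (Submodule.finrank_mono (show Submodule.span F (Set.range ![x z, x w]) ≤ _ from
          Submodule.span_le.2 ?_))
        · rw [finrank_span_eq_card hli', Fintype.card_fin]
        · rintro _ ⟨i, rfl⟩
          fin_cases i
          · exact ⟨Submodule.mem_map_of_mem hzW, by show x z ∈ W; rw [hxz]; exact W.smul_mem _ hzW⟩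
          · exact ⟨Submodule.mem_map_of_mem hwW, by show x w ∈ W; rw [hxw]; exact W.smul_mem _ hwW⟩
      exact lt_of_lt_of_le hlt h1
    obtain ⟨σ, hσ⟩ := hs.semi_of_stab ht hL hx hst hc₀0 (s := ε) (by rw [hc₀, hxz])
    refine ⟨hst, σ, ?_, hσ⟩
    have h1 := hσ (c₁ / c₀)
    rwa [div_mul_cancel₀ _ hc₀0, hc₁, hxw] at h1
  have hmixed : ∀ x ∈ X, ∀ ε : F, x z = ε • z → x w = (-ε) • w → ε * ε = 1 → False := by
    intro x hx ε hxz hxw hεε
    obtain ⟨-, σ, hσ, -⟩ := hinv x hx ε (-ε) hxz hxw hεε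
    have hε0 : ε ≠ 0 := fun e => by simp [e] at hεε
    rw [neg_smul, ← smul_neg] at hσ
    have h1 := smul_right_injective V hε0 hσ
    rw [← hc₁, ← map_neg, ← neg_smul] at h1
    refine hc₁0 (algHom_ne_neg hs.prime hr2 hs.two (σ := σ) (mul_right_cancel₀ hc₀0 ?_))
    rw [← huniq h1, neg_mul, div_mul_cancel₀ _ hc₀0]
  have hnp : ∀ p q z : V, B z p = 0 → B z q = 0 → negPairMap B p q z = z := fun p q z h1 h4 => by
    simp [negPairMap_apply, h1, h4]
  have hneg : ∀ p q : V, B p p ≠ 0 → B p q = 0 → negPairMap B p q p = -p := fun p q hp hpq => by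
    rw [negPairMap_apply, hpq, mul_zero, zero_smul, sub_zero, div_mul_cancel₀ _ hp, two_smul]
    abel
  have hneg' : ∀ p q : V, B q q ≠ 0 → B p q = 0 → negPairMap B p q q = -q := fun p q hq hpq => by
    rw [negPairMap_apply, hs.symm q p, hpq, mul_zero, zero_smul, sub_zero, div_mul_cancel₀ _ hq, two_smul]
    abel
  have hcls : ∀ p q : V, B p p ≠ 0 → B q q ≠ 0 → IsSquare (B p p * B q q) →
      ∃ t : K, t ≠ 0 ∧ B q q = t * t * B p p := by
    rintro p q hp hq ⟨s, hs'⟩
    have hs0 : s ≠ 0 := fun e => mul_ne_zero hp hq (by rw [hs', e, mul_zero])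
    refine ⟨s / B p p, div_ne_zero hs0 hp, ?_⟩
    field_simp
    linear_combination hs'
  by_cases hwa' : IsSquare (B w w * B a a)
  · obtain ⟨t, ht0, ht'⟩ := hcls w a hww ha hwa'
    obtain ⟨x, hx, hx'⟩ := hs.negPair_mem hww hwa ht0 ht'
    exact hmixed x hx 1 (by rw [hx', hnp w a z hzw hza, one_smul])
      (by rw [hx', hneg w a hww hwa, neg_one_smul]) (one_mul 1)
  by_cases hza' : IsSquare (B z z * B a a)
  · obtain ⟨t, ht0, ht'⟩ := hcls z a hzz ha hza'
    obtain ⟨x, hx, hx'⟩ := hs.negPair_mem hzz hza ht0 ht'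
    exact hmixed x hx (-1) (by rw [hx', hneg z a hzz hza, neg_one_smul])
      (by rw [hx', hnp z a w hwz hwa, neg_neg, one_smul]) (by norm_num)
  have hzw' : IsSquare (B z z * B w w) := by
    obtain ⟨s, hs'⟩ := isSquare_mul_of_not hwa' hza'
    exact ⟨s / B a a, by field_simp; linear_combination hs'⟩
  obtain ⟨t, ht0, ht'⟩ := hcls z w hzz hww hzw'
  obtain ⟨x, hx, hx'⟩ := hs.negPair_mem hzz hzw ht0 ht'
  obtain ⟨-, σ, hσw, hσ⟩ := hinv x hx (-1) (-1) (by rw [hx', hneg z w hzz hzw, neg_one_smul])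
    (by rw [hx', hneg' z w hww hzw, neg_one_smul]) (by norm_num)
  have hcF : c₁ / c₀ ∉ Set.range (algebraMap F K) := by
    rintro ⟨s, hs'⟩
    have e : w = s • z := by
      rw [← hc₁, ← hc₀, ← map_smul, ← smul_assoc, Algebra.smul_def, hs', div_mul_cancel₀ _ hc₀0]
    have h1 := hzw
    rw [e, ← algebraMap_smul K s z, map_smul, smul_eq_mul, mul_eq_zero] at h1
    rw [(h1.resolve_right hzz : algebraMap F K s = 0)] at hs'
    exact hc₁0 hs'.symm
  have hfix : σ (c₁ / c₀) = c₁ / c₀ := by
    have h1 := smul_right_injective V (neg_ne_zero.2 (one_ne_zero : (1 : F) ≠ 0)) hσw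
    rw [← hc₁] at h1
    refine mul_right_cancel₀ hc₀0 ?_
    rw [← huniq h1, div_mul_cancel₀ _ hc₀0]
  have hWa : ∀ ω ∈ W, B ω a = 0 := by
    intro ω hω
    obtain ⟨d, rfl⟩ := mem_img.1 hω
    have h1 := hσ (d / c₀)
    rw [algHom_eq_id hs.prime hcF hfix, div_mul_cancel₀ _ hc₀0, neg_one_smul, hx'] at h1
    have h4 := congrArg (fun q => B q a) h1
    simp [negPairMap_apply, hza, hwa] at h4
    have h5 : (2 : K) * B (h (d • v)) a = 0 := by linear_combination h4
    exact (mul_eq_zero.1 h5).resolve_left h2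
  set f₀ := (B w₀ v')⁻¹ • w₀ - (B w₀ w₀ / (2 * (B w₀ v' * B w₀ v'))) • v'
  have hvf : B v' f₀ = 1 := by simp [f₀, hv'v', hs.symm v' w₀, he₀]
  have hff : B f₀ f₀ = 0 := by
    simp [f₀, hv'v', hs.symm v' w₀]
    field_simp
    ring
  exact hs.false_of_planar_three ht hL h3 hvf hff ha (hWa v' hmem)
    (by simp [f₀, hWa v' hmem, hWa w₀ hw₀]) hWa

/-- Few equations. -/
theorem Setup.false_of_few (h2a : 2 ≤ finrank F (img (F := F) K h v ⊓ line K v' : Submodule F V))
    (hlt : finrank F K < 2 * finrank F (img (F := F) K h v ⊓ line K v' : Submodule F V)) : False := by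
  haveI : Finite K := Module.finite_of_finite F
  haveI : Module.Finite F V := Module.Finite.trans K V
  obtain ⟨hh, hv, hvv, hv', hv'v', hmem, -⟩ := ht.trip
  obtain ⟨w, hw, hwn⟩ := hs.exists_outside ht.trip
  set W := img (F := F) K h v with hW
  set A := W ⊓ line (F := F) K v' with hA
  set e := B w v' with he_def
  have he : e ≠ 0 := fun e0 => hs.false_of_perp ht hL hw hwn e0
  obtain ⟨f₀, hvf, hff⟩ := hs.exists_partner hv' hv'v'
  obtain ⟨y, hy, hvy, hfy⟩ := hs.exists_aniso_perp_hyp hv'v' hff hvf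
  obtain ⟨C', hC'⟩ := exists_isCompl (A.comap W.subtype)
  set C := C'.map W.subtype with hC
  have hCs : finrank F C + finrank F A = finrank F K := by
    have h1 := Submodule.finrank_add_eq_of_isCompl hC'
    have h5 : finrank F W = finrank F K := hs.finrank_img_eq hv
    rw [hC, ← (Submodule.equivMapOfInjective _ W.subtype_injective C').finrank_eq]
    rw [(Submodule.comapSubtypeEquivOfLe (inf_le_left : A ≤ W)).finrank_eq] at h1
    rw [h5] at h1
    exact (add_comm _ _).trans h1
  let bC := Module.finBasis F C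
  obtain ⟨k, hk0, hk⟩ := exists_common_zero μ
    (fun j => B w y * B v' (bC j) - e * B (bC j : V) y) (fun j => -(B y y / 2) * e * B v' (bC j)) (by omega)
  obtain ⟨g, hg, hg'⟩ := hs.siegel_mem hv'v' (y := k • y) (by simp [hvy])
  have hgA : ∀ a ∈ A, g a = a := fun a ha => by
    obtain ⟨d, rfl⟩ := mem_line.1 ha.2
    simp [hg', siegelMap_apply, hvy, hv'v']
  refine hs.false_of_translate ht hL hg hgA hw (fun hin => ?_) fun ω hω => ?_
  · have h1 := hs.fix_image ht hL h2a hg hgA (hs.stab_of_fix ht hg hgA hw hwn hin) hw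
    have h4 := congrArg (fun q => B q y) h1
    simp [hg', siegelMap_apply, hvy, ← he_def, he, hk0, hy] at h4
  · let P : V →ₗ[F] F := μ.comp ((B (g w)).restrictScalars F)
    suffices W ≤ LinearMap.ker P from LinearMap.mem_ker.1 (this hω)
    have e1 : ∀ ω, B (g w) ω = B w ω + (k * (B w y * B v' ω - e * B ω y) + k * k * (-(B y y / 2) * e * B v' ω)) :=
      fun ω => by
        simp only [hg', siegelMap_apply, map_add, map_sub, map_smul, LinearMap.add_apply, LinearMap.sub_apply,
          LinearMap.smul_apply, smul_eq_mul, ← he_def, hs.symm y ω]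
        ring
    intro ω hω
    obtain ⟨a, c, ha, hc, hac⟩ := Submodule.codisjoint_iff_exists_add_eq.1 hC'.codisjoint ⟨ω, hω⟩
    have hdec : (a : V) + (c : V) = ω := congrArg Subtype.val hac
    rw [LinearMap.mem_ker, ← hdec, map_add]
    have hPa : P (a : V) = 0 := by
      obtain ⟨d, hd⟩ := mem_line.1 (Submodule.mem_comap.1 ha).2
      show μ (B (g w) (a : V)) = 0
      rw [Submodule.subtype_apply] at hd
      rw [e1, map_add, hs.img_isotropic hh hvv hw a.2, ← hd]
      simp [hv'v', hvy]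
    have hPc : ∀ x : C, P (x : V) = 0 := by
      suffices P.comp C.subtype = 0 from fun x => congrFun (congrArg DFunLike.coe this) x
      refine bC.ext fun j => ?_
      show μ (B (g w) (bC j : V)) = 0
      obtain ⟨⟨q, hq⟩, -, hq'⟩ := (bC j).2
      rw [e1, map_add, hk j, add_zero]
      exact hs.img_isotropic hh hvv hw (hq' ▸ hq)
    rw [hPa, zero_add]
    exact hPc ⟨_, Submodule.mem_map_of_mem hc⟩

end CfsgLib.Geo.OrthExt
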