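/-
Dimension three: the pointwise stabiliser of a small intersection has a self-normalising Sylow subgroup.
-/
import Cfsg.Agent.Lib.Geo.OrthExt.ThreeSmall
import Cfsg.Agent.Lib.Core.FPF
import Mathlib.RingTheory.Norm.Transitivity

set_option autoImplicit false

namespace CfsgLib.Geo.OrthExt

open Module LinearMap CfsgLib.Geo.FieldExt
open LinearMap (BilinForm)

variable {F K V : Type*} [Field F] [Fintype F] [Field K] [Algebra F K] [AddCommGroup V] [Module F V] [Module K V]
  [IsScalarTower F K V] [FiniteDimensional F K] [FiniteDimensional K V]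

/-- Coefficient of an element moving only the opposite line, along the line. -/
def RMem (X : Subgroup (V ≃ₗ[F] V)) (u f y : V) (ζ : K →ₗ[F] K) : Prop :=
  ∃ z ∈ X, (∀ d : K, z (d • u) = d • u) ∧ (∀ d : K, z (d • y) = d • y) ∧ ∀ d : K, z (d • f) = d • f + ζ d • u

variable {B : BilinForm K V} {μ : K →ₗ[F] F} {X : Subgroup (V ≃ₗ[F] V)} (hs : Setup B μ X)
  {h : V ≃ₗ[F] V} {v v' : V}
include hs

omit [Fintype F] [FiniteDimensional F K] [FiniteDimensional K V] in
theorem Setup.rmem_sub {u f y : V} {ζ η : K →ₗ[F] K} (h : RMem X u f y ζ) (h' : RMem X u f y η) :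
    RMem X u f y (ζ - η) := by
  obtain ⟨z, hz, h1, h2, h3⟩ := h
  obtain ⟨z', hz', h1', h2', h3'⟩ := h'
  have e1 : ∀ d : K, z'.symm (d • u) = d • u := fun d => by rw [LinearEquiv.symm_apply_eq, h1']
  refine ⟨z * z'⁻¹, X.mul_mem hz (X.inv_mem hz'), fun d => ?_, fun d => ?_, fun d => ?_⟩
  · show z (z'.symm (d • u)) = _
    rw [e1, h1]
  · show z (z'.symm (d • y)) = _
    rw [show z'.symm (d • y) = d • y by rw [LinearEquiv.symm_apply_eq, h2'], h2]
  · show z (z'.symm (d • f)) = _
    have e3 : z'.symm (d • f) = d • f - η d • u := by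
      rw [LinearEquiv.symm_apply_eq, map_sub, h1', h3', add_sub_cancel_right]
    rw [e3, map_sub, h1, h3, LinearMap.sub_apply, sub_smul]
    abel

omit [Fintype F] [FiniteDimensional F K] [FiniteDimensional K V] in
theorem Setup.rmem_torus {u f y : V} (hu : B u u = 0) (hf : B f f = 0) (huf : B u f = 1) (huy : B u y = 0)
    (hfy : B f y = 0) {ζ : K →ₗ[F] K} (h : RMem X u f y ζ) {c : K} (hc : c ≠ 0) :
    RMem X u f y ((mulL (c * c)).comp (ζ.comp (mulL (c * c)))) := by
  obtain ⟨z, hz, h1, h2, h3⟩ := h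
  obtain ⟨t, ht, ht'⟩ := hs.torus_mem hu hf huf hc
  have hc2 : c * c ≠ 0 := mul_ne_zero hc hc
  have hfu : B f u = 1 := by rw [hs.symm, huf]
  have tu : ∀ d : K, t (d • u) = (c * c * d) • u := fun d => by
    rw [ht', torusMap_apply]
    simp only [map_smul, LinearMap.smul_apply, huf, hu, smul_eq_mul]
    match_scalars <;> ring
  have tf : ∀ d : K, t (d • f) = ((c * c)⁻¹ * d) • f := fun d => by
    rw [ht', torusMap_apply]
    simp only [map_smul, LinearMap.smul_apply, hfu, hf, smul_eq_mul]
    match_scalars <;> ring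
  have ty : ∀ d : K, t (d • y) = d • y := fun d => by
    rw [ht', torusMap_apply]
    simp [hs.symm y u, hs.symm y f, huy, hfy]
  refine ⟨t * z * t⁻¹, X.mul_mem (X.mul_mem ht hz) (X.inv_mem ht), fun d => ?_, fun d => ?_, fun d => ?_⟩
  · show t (z (t.symm (d • u))) = _
    rw [show t.symm (d • u) = ((c * c)⁻¹ * d) • u by rw [LinearEquiv.symm_apply_eq, tu, mul_inv_cancel_left₀ hc2],
      h1, tu, mul_inv_cancel_left₀ hc2]
  · show t (z (t.symm (d • y))) = _
    rw [show t.symm (d • y) = d • y by rw [LinearEquiv.symm_apply_eq, ty], h2, ty]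
  · show t (z (t.symm (d • f))) = _
    rw [show t.symm (d • f) = (c * c * d) • f by rw [LinearEquiv.symm_apply_eq, tf, inv_mul_cancel_left₀ hc2],
      h3, map_add, tf, tu, inv_mul_cancel_left₀ hc2]
    rfl

variable (ht : MaxT B X h v v') (hL : LinesSemi B X) (h3 : finrank K V = 3)
  (h2a : 2 ≤ finrank F (img (F := F) K h v ⊓ line K v' : Submodule F V))
  (hge : 2 * finrank F (img (F := F) K h v ⊓ line K v' : Submodule F V) ≤ finrank F K)
  {f₀ y : V} (hvf : B v' f₀ = 1) (hff : B f₀ f₀ = 0) (hy : B y y ≠ 0) (hvy : B v' y = 0) (hfy : B f₀ y = 0)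

include ht hL h3 h2a hge hvf hff hy hvy hfy

/-- Nothing moves only the opposite line. -/
theorem Setup.rmem_eq_zero {ζ : K →ₗ[F] K} (hζ : RMem X v' f₀ y ζ) : ζ = 0 := by
  classical
  haveI : Finite K := Module.finite_of_finite F
  haveI : Fintype K := Fintype.ofFinite K
  haveI : Module.Finite F V := Module.Finite.trans K V
  by_contra hζ0
  have hr2 := hs.three h3
  obtain ⟨hh, hv, hvv, hv', hv'v', hmem, -⟩ := ht.trip
  have hf0 : f₀ ≠ 0 := fun e => by simp [e] at hvf
  set W := img (F := F) K h v with hW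
  obtain ⟨w, hw, hwn⟩ := hs.exists_outside ht.trip
  have hdec := hs.decomp h3 hv'v' hff hvf hy hvy hfy
  -- any nonzero coefficient, evaluated at `w`, leaves the image
  have key : ∀ η : K →ₗ[F] K, RMem X v' f₀ y η →
      (∀ ω ∈ W, μ (η (B w v') * B v' ω) = 0) → η = 0 := by
    intro η hη hηw
    by_contra hη0
    obtain ⟨z, hz, z1, z2, z3⟩ := hη
    have happ : ∀ ω, z ω = ω + η (B ω v') • v' := fun ω => by
      conv_lhs => rw [hdec ω, map_add, map_add, z1, z2, z3]
      conv_rhs => arg 1; rw [hdec ω]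
      abel
    have hA : ∀ a ∈ W ⊓ line (F := F) K v', z a = a := fun a ha => by
      obtain ⟨d, rfl⟩ := mem_line.1 ha.2
      exact z1 d
    have hzw : z w ∈ W := by
      by_contra hzw
      refine hs.false_of_translate ht hL hz hA hw hzw fun ω hω => ?_
      rw [happ, map_add, LinearMap.add_apply, map_add, hs.img_isotropic hh hvv hw hω, map_smul, LinearMap.smul_apply,
        smul_eq_mul, hηw ω hω, add_zero]
    have hfix := fun ω => hs.fix_image ht hL h2a hz hA (hs.stab_of_fix ht hz hA hw hwn hzw) (ω := ω)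
    have hker : ∀ ω ∈ W, η (B ω v') = 0 := fun ω hω => by
      have h1 := hfix ω hω
      rw [happ, add_eq_left, smul_eq_zero] at h1
      exact h1.resolve_right hv'
    obtain ⟨d, hd⟩ : ∃ d, η d ≠ 0 := by
      by_contra! hall
      exact hη0 (LinearMap.ext hall)
    -- the opposite line meets its image in too much
    let e : W →ₗ[F] K := ((B.flip v').restrictScalars F).comp W.subtype
    have hke : finrank F (LinearMap.ker e) ≤ finrank F (W ⊓ line (F := F) K v' : Submodule F V) := by
      rw [(Submodule.equivMapOfInjective _ W.subtype_injective (LinearMap.ker e)).finrank_eq]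
      refine Submodule.finrank_mono ?_
      rintro _ ⟨⟨ω, hω⟩, hk, rfl⟩
      refine ⟨hω, ?_⟩
      by_contra hn
      exact hs.false_of_perp ht hL hω hn (LinearMap.mem_ker.1 hk)
    have h1 := LinearMap.finrank_range_add_finrank_ker e
    have h5 : finrank F W = finrank F K := hs.finrank_img_eq hv
    obtain ⟨e₀, he₀, he₀0⟩ : ∃ c ∈ LinearMap.range e, c ≠ 0 := by
      refine Submodule.exists_mem_ne_zero_of_ne_bot fun e0 => ?_
      rw [e0, finrank_bot] at h1
      have := hs.prime.two_le
      omega
    have hzero : ∀ c ∈ LinearMap.range e, η c = 0 := by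
      rintro _ ⟨⟨ω, hω⟩, rfl⟩
      exact hker ω hω
    have hfl : e₀ • f₀ ∈ line (F := F) K f₀ := mem_line.2 ⟨e₀, rfl⟩
    have htrip : STrip B X z f₀ (e₀ • f₀) := ⟨hz, hf0, hff, smul_ne_zero he₀0 hf0, by simp [hff],
      mem_img.2 ⟨e₀, by rw [z3, hzero e₀ he₀]; simp⟩, fun e0 => by
        rw [line_eq hfl (smul_ne_zero he₀0 hf0)] at e0
        obtain ⟨c, hc⟩ := mem_line.1 (e0 ▸ mem_img.2 ⟨d, rfl⟩ : z (d • f₀) ∈ line (F := F) K f₀)
        rw [z3] at hc
        have h4 := congrArg (fun q => B f₀ q) hc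
        simp [hff, hs.symm f₀ v', hvf] at h4
        exact hd h4.symm⟩
    have h2' := ht.max _ _ _ htrip
    have h6 : finrank F (LinearMap.range e) ≤
        finrank F (img (F := F) K z f₀ ⊓ line K (e₀ • f₀) : Submodule F V) := by
      rw [(Submodule.equivMapOfInjective ((LinearMap.toSpanSingleton K V f₀).restrictScalars F)
        (smul_left_injective K hf0) _).finrank_eq]
      refine Submodule.finrank_mono ?_
      rintro _ ⟨c, hc, rfl⟩
      refine ⟨mem_img.2 ⟨c, ?_⟩, ?_⟩
      · show z (c • f₀) = c • f₀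
        rw [z3, hzero c hc, zero_smul, add_zero]
      · rw [line_eq hfl (smul_ne_zero he₀0 hf0)]
        exact mem_line.2 ⟨c, rfl⟩
    have hodd : finrank F K % 2 = 1 := Nat.odd_iff.1 (hs.prime.odd_of_ne_two hr2)
    have hke' : finrank F (LinearMap.ker e) ≤ finrank F (img (F := F) K h v ⊓ line K v' : Submodule F V) := hke
    have hWA : finrank F (W ⊓ line (F := F) K v' : Submodule F V) =
        finrank F (img (F := F) K h v ⊓ line K v' : Submodule F V) := rfl
    omega
  -- pigeonhole
  obtain ⟨C, hC⟩ := exists_isCompl (LinearMap.ker (((B.flip v').restrictScalars F).comp W.subtype))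
  have hCcard : Nat.card (C →ₗ[F] F) * Fintype.card F ^ 2 ≤ Fintype.card K := by
    have h1 := Submodule.finrank_add_eq_of_isCompl hC
    have h5 : finrank F W = finrank F K := hs.finrank_img_eq hv
    have h6 : 2 ≤ finrank F (LinearMap.ker (((B.flip v').restrictScalars F).comp W.subtype)) := by
      refine h2a.trans ?_
      rw [(Submodule.equivMapOfInjective _ W.subtype_injective
        (LinearMap.ker (((B.flip v').restrictScalars F).comp W.subtype))).finrank_eq]
      refine Submodule.finrank_mono fun a ha => ⟨⟨a, ha.1⟩, ?_, rfl⟩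
      obtain ⟨d, rfl⟩ := mem_line.1 ha.2
      simp [hv'v']
    rw [Module.natCard_eq_pow_finrank (K := F), Subspace.dual_finrank_eq, Nat.card_eq_fintype_card,
      Module.card_eq_pow_finrank (K := F) (V := K), ← pow_add]
    exact Nat.pow_le_pow_right Fintype.card_pos (by omega)
  let ζc : K → (K →ₗ[F] K) := fun c => (mulL (c * c)).comp (ζ.comp (mulL (c * c)))
  let Θ : K → (C →ₗ[F] F) := fun c => μ.comp ((mulL (ζc c (B w v'))).comp
    (((B v').restrictScalars F).comp (W.subtype.comp C.subtype)))
  haveI : Finite (C →ₗ[F] F) := Module.finite_of_finite F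
  haveI : Fintype (C →ₗ[F] F) := Fintype.ofFinite _
  set S := (Finset.univ : Finset K).erase 0
  have hS : S.card + 1 = Fintype.card K := Finset.card_erase_add_one (Finset.mem_univ 0)
  have hF : 3 ≤ Fintype.card F := by
    by_contra! hh'
    have h1 := Fintype.one_lt_card (α := F)
    have h4 : Fintype.card F = 2 := by omega
    have := FiniteField.cast_card_eq_zero F
    rw [h4, Nat.cast_ofNat] at this
    exact hs.two this
  have hlt : 4 * (Finset.univ : Finset (C →ₗ[F] F)).card < S.card := by
    have h9 : 9 ≤ Fintype.card F ^ 2 := le_trans (by norm_num) (Nat.pow_le_pow_left hF 2)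
    have h1 := Nat.mul_le_mul_left (Nat.card (C →ₗ[F] F)) h9
    have h4 : 0 < Nat.card (C →ₗ[F] F) := Nat.card_pos
    rw [Finset.card_univ, ← Nat.card_eq_fintype_card]
    omega
  obtain ⟨φ, -, hφ⟩ := Finset.exists_lt_card_fiber_of_mul_lt_card_of_maps_to (f := Θ)
    (fun c _ => Finset.mem_univ _) (show (Finset.univ : Finset (C →ₗ[F] F)).card * 4 < S.card by omega)
  -- two elements of a fibre with different coefficients
  set T := S.filter fun c => Θ c = φ with hT
  obtain ⟨a, ha⟩ : T.Nonempty := Finset.card_pos.1 (by omega)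
  obtain ⟨b, hb, hne⟩ : ∃ b ∈ T, ζc a ≠ ζc b := by
    by_contra! hall
    have hsq : ∀ b ∈ T, b * b = a * a ∨ b * b = -(a * a) := by
      intro b hb
      have ha0 : a ≠ 0 := (Finset.mem_erase.1 (Finset.mem_filter.1 ha).1).1
      have hb0 : b ≠ 0 := (Finset.mem_erase.1 (Finset.mem_filter.1 hb).1).1
      set c := b * b / (a * a) with hc
      have hc0 : c ≠ 0 := div_ne_zero (mul_ne_zero hb0 hb0) (mul_ne_zero ha0 ha0)
      have hcz : ∀ e, c * ζ (c * e) = ζ e := fun e => by
        have h1 := congrFun (congrArg DFunLike.coe (hall b hb)) (e / (a * a))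
        simp only [ζc, LinearMap.comp_apply, mulL_apply] at h1
        rw [mul_div_cancel₀ _ (mul_ne_zero ha0 ha0), show b * b * (e / (a * a)) = c * e by rw [hc]; ring] at h1
        refine mul_left_cancel₀ (mul_ne_zero ha0 ha0) ?_
        rw [h1, ← mul_assoc]
        congr 1
        rw [hc, mul_div_cancel₀ _ (mul_ne_zero ha0 ha0)]
      obtain ⟨d, hd⟩ : ∃ d, ζ d ≠ 0 := by
        by_contra! hh'
        exact hζ0 (LinearMap.ext hh')
      have hc1 : c * c = 1 := by
        by_cases hcF : c ∈ Set.range (algebraMap F K)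
        · obtain ⟨s, hs'⟩ := hcF
          have h1 := hcz d
          rw [← hs', ← Algebra.smul_def s d, map_smul, Algebra.smul_def, hs', ← mul_assoc] at h1
          exact mul_right_cancel₀ hd (by rw [h1, one_mul])
        · let S' : Subalgebra F K :=
            { carrier := {t | ∃ t', ∀ e, ζ (t * e) = t' * ζ e}
              mul_mem' := fun {p q} ⟨p', hp⟩ ⟨q', hq⟩ => ⟨p' * q', fun e => by rw [mul_assoc, hp, hq, mul_assoc]⟩
              add_mem' := fun {p q} ⟨p', hp⟩ ⟨q', hq⟩ => ⟨p' + q', fun e => by rw [add_mul, map_add, hp, hq, add_mul]⟩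
              algebraMap_mem' := fun s => ⟨algebraMap F K s, fun e => by
                rw [← Algebra.smul_def, map_smul, Algebra.smul_def]⟩ }
          have htop : S' = ⊤ := by
            haveI := Subalgebra.isSimpleOrder_of_finrank_prime F K hs.prime
            refine (eq_bot_or_eq_top S').resolve_left fun e0 => hcF (Algebra.mem_bot.1 (e0 ▸ ?_))
            exact ⟨c⁻¹, fun e => by rw [← hcz e, inv_mul_cancel_left₀ hc0]⟩
          choose σ hσ using fun t => (htop ▸ Algebra.mem_top : t ∈ S')
          have huniq : ∀ {p q : K}, p * ζ d = q * ζ d → p = q := fun e => mul_right_cancel₀ hd e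
          let σA : K →ₐ[F] K :=
            { toFun := σ
              map_one' := huniq (by rw [← hσ, one_mul, one_mul])
              map_mul' := fun p q => huniq (by rw [← hσ, mul_assoc, hσ, hσ, mul_assoc])
              map_zero' := huniq (by rw [← hσ, zero_mul, map_zero, zero_mul])
              map_add' := fun p q => huniq (by rw [← hσ, add_mul, map_add, hσ, hσ, add_mul])
              commutes' := fun s => huniq (by rw [← hσ, ← Algebra.smul_def, map_smul, Algebra.smul_def]) }
          have hσc : σA c = c⁻¹ := huniq (by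
            show σ c * ζ d = _
            rw [← hσ, ← hcz d, inv_mul_cancel_left₀ hc0])
          have h1 := algHom_involution hs.prime hr2 (σ := σA) (c := c) (by rw [hσc, map_inv₀, hσc, inv_inv])
          rw [hσc] at h1
          conv_lhs => arg 1; rw [← h1]
          rw [inv_mul_cancel₀ hc0]
      rcases mul_self_eq_one_iff.1 hc1 with r | r
      · left; rw [hc, div_eq_one_iff_eq (mul_ne_zero ha0 ha0)] at r; exact r
      · right; rw [hc, div_eq_iff (mul_ne_zero ha0 ha0), neg_one_mul] at r; exact r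
    by_cases hex : ∃ b ∈ T, b * b = -(a * a)
    · obtain ⟨b, hb, hb'⟩ := hex
      have := (Finset.card_le_card (t := {a, -a, b, -b}) fun x hx => by
        rcases hsq x hx with r | r
        · rcases mul_self_eq_mul_self_iff.1 r with r | r <;> simp [r]
        · rcases mul_self_eq_mul_self_iff.1 (r.trans hb'.symm) with r | r <;> simp [r]).trans Finset.card_le_four
      omega
    · push Not at hex
      have := (Finset.card_le_card (t := {a, -a}) fun x hx => by
        rcases mul_self_eq_mul_self_iff.1 ((hsq x hx).resolve_right (hex x hx)) with r | r <;> simp [r]).trans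
          Finset.card_le_two
      omega
  have hη := hs.rmem_sub (hs.rmem_torus hv'v' hff hvf hvy hfy hζ (Finset.mem_erase.1 (Finset.mem_filter.1 ha).1).1)
    (hs.rmem_torus hv'v' hff hvf hvy hfy hζ (Finset.mem_erase.1 (Finset.mem_filter.1 hb).1).1)
  refine hne (sub_eq_zero.1 (key _ hη fun ω hω => ?_))
  obtain ⟨p, q, hp, hq, hpq⟩ := Submodule.codisjoint_iff_exists_add_eq.1 hC.codisjoint ⟨ω, hω⟩
  have hΘ : Θ a ⟨q, hq⟩ = Θ b ⟨q, hq⟩ := by
    rw [(Finset.mem_filter.1 ha).2, (Finset.mem_filter.1 hb).2]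
  have hω' : (p : V) + (q : V) = ω := congrArg Subtype.val hpq
  have hp0 : B v' (p : V) = 0 := by
    rw [hs.symm]
    exact LinearMap.mem_ker.1 hp
  rw [← hω', map_add, hp0, zero_add, LinearMap.sub_apply, sub_mul, map_sub, sub_eq_zero]
  exact hΘ

omit h2a hge in
/-- Coordinates of an element fixing the line pointwise. -/
theorem Setup.coords {x : V ≃ₗ[F] V} (hx : x ∈ X) (hxv : ∀ d : K, x (d • v') = d • v') :
    ∃ M φ ψ α : K →ₗ[F] K, (∀ d : K, x (d • y) = M d • y + φ d • v') ∧
      ∀ d : K, x (d • f₀) = d • f₀ + ψ d • y + α d • v' := by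
  have hv'v' := ht.trip.sing'
  have hdec := hs.decomp h3 hv'v' hff hvf hy hvy hfy
  have hfv : B f₀ v' = 1 := by rw [hs.symm, hvf]
  have hyv : B y v' = 0 := by rw [hs.symm, hvy]
  have hperp : ∀ z, B (x z - z) v' = 0 := fun z => by
    rw [hs.symm]
    refine hs.eq_zero_of_line fun d => ?_
    rw [map_sub, map_sub]
    conv_lhs => arg 1; rw [← hxv d]
    rw [hs.preserves x hx, sub_self]
  let c₁ : V → K →ₗ[F] K := fun q =>
    { toFun := fun d => B (x (d • q)) f₀
      map_add' := fun a b => by simp [add_smul]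
      map_smul' := fun s a => by
        rw [smul_assoc, map_smul, ← algebraMap_smul K s (x (a • q))]
        simp [Algebra.smul_def] }
  let c₂ : V → K →ₗ[F] K := fun q =>
    { toFun := fun d => B (x (d • q)) y / B y y
      map_add' := fun a b => by simp [add_smul, add_div]
      map_smul' := fun s a => by
        rw [smul_assoc, map_smul, ← algebraMap_smul K s (x (a • q))]
        simp [Algebra.smul_def, mul_div_assoc] }
  refine ⟨c₂ y, c₁ y, c₂ f₀, c₁ f₀, fun d => ?_, fun d => ?_⟩
  · have h1 := hperp (d • y)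
    simp [hyv] at h1
    conv_lhs => rw [hdec (x (d • y)), h1]
    simp only [c₁, c₂, LinearMap.coe_mk, AddHom.coe_mk]
    module
  · have h1 := hperp (d • f₀)
    simp [hfv, sub_eq_zero] at h1
    conv_lhs => rw [hdec (x (d • f₀)), h1]
    simp only [c₁, c₂, LinearMap.coe_mk, AddHom.coe_mk]
    abel

/-- The commutators with Siegel elements only move the opposite line, so they vanish. -/
theorem Setup.middle_scalar {x : V ≃ₗ[F] V} (hx : x ∈ X) (hxv : ∀ d : K, x (d • v') = d • v') {φ ψ α : K →ₗ[F] K}
    (hxy : ∀ d : K, x (d • y) = d • y + φ d • v')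
    (hxf : ∀ d : K, x (d • f₀) = d • f₀ + ψ d • y + α d • v') (c d : K) : -φ (c * d) = c * B y y * ψ d := by
  have hv'v' := ht.trip.sing'
  have hfv : B f₀ v' = 1 := by rw [hs.symm, hvf]
  have hyv : B y v' = 0 := by rw [hs.symm, hvy]
  obtain ⟨p, hp, hp'⟩ := hs.siegel_mem hv'v' (y := c • y) (by simp [hvy])
  have pv : ∀ d : K, p (d • v') = d • v' := fun d => by simp [hp', siegelMap_apply, hv'v', hvy]
  have py : ∀ d : K, p (d • y) = d • y + (c * d * B y y) • v' := fun d => by
    simp only [hp', siegelMap_apply, map_smul, LinearMap.smul_apply, hyv, smul_eq_mul]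
    match_scalars <;> ring
  have pf : ∀ d : K, p (d • f₀) = d • f₀ - (c * d) • y - (c * c * B y y / 2 * d) • v' := fun d => by
    simp only [hp', siegelMap_apply, map_smul, LinearMap.smul_apply, hfy, hfv, smul_eq_mul]
    match_scalars <;> ring
  let L : K →ₗ[F] K := -φ.comp (mulL c) - (mulL (c * B y y)).comp ψ
  set z := x * p * (p * x)⁻¹ with hzdef
  have hz : ∀ q, z (p (x q)) = x (p q) := fun q => by
    show (x * p) ((p * x).symm ((p * x) q)) = _
    rw [LinearEquiv.symm_apply_apply]
    rfl
  have zv : ∀ d : K, z (d • v') = d • v' := fun d => by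
    have h1 := hz (d • v')
    rwa [hxv, pv, hxv] at h1
  have zy : ∀ d : K, z (d • y) = d • y := fun d => by
    have h1 := hz (d • y)
    simp only [hxy, map_add, py, pv, hxv, zv] at h1
    linear_combination (norm := module) h1
  have hR : RMem X v' f₀ y L := by
    refine ⟨z, X.mul_mem (X.mul_mem hx hp) (X.inv_mem (X.mul_mem hp hx)), zv, zy, fun d => ?_⟩
    have h1 := hz (d • f₀)
    simp only [hxf, map_add, map_sub, pf, py, pv, hxy, hxv, zv, zy] at h1
    simp only [L, LinearMap.sub_apply, LinearMap.neg_apply, LinearMap.comp_apply, mulL_apply]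
    linear_combination (norm := module) h1
  have h1 := congrFun (congrArg DFunLike.coe (hs.rmem_eq_zero ht hL h3 h2a hge hvf hff hy hvy hfy hR)) d
  simp only [L, LinearMap.sub_apply, LinearMap.neg_apply, LinearMap.comp_apply, mulL_apply, LinearMap.zero_apply] at h1
  linear_combination h1

/-- Stabilisers of the line fixing it pointwise are Siegel elements. -/
theorem Setup.eq_siegel {x : V ≃ₗ[F] V} (hx : x ∈ X) (hxv : ∀ d : K, x (d • v') = d • v') :
    ∃ k : K, ∀ z, x z = siegelMap B v' (k • y) z := by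
  haveI : Finite K := Module.finite_of_finite F
  haveI : Module.Finite F V := Module.Finite.trans K V
  have hv'v' := ht.trip.sing'
  have hv' := ht.trip.ne'
  have hr2 := hs.three h3
  have hdec := hs.decomp h3 hv'v' hff hvf hy hvy hfy
  have hfv : B f₀ v' = 1 := by rw [hs.symm, hvf]
  have hyv : B y v' = 0 := by rw [hs.symm, hvy]
  have hyf : B y f₀ = 0 := by rw [hs.symm, hfy]
  have hperp : ∀ z, B (x z - z) v' = 0 := fun z => by
    rw [hs.symm]
    refine hs.eq_zero_of_line fun d => ?_
    rw [map_sub, map_sub]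
    conv_lhs => arg 1; rw [← hxv d]
    rw [hs.preserves x hx, sub_self]
  have hE : ∀ (c : K), ∃ g ∈ X, ∀ z, g z = siegelMap B v' (c • y) z := fun c =>
    hs.siegel_mem hv'v' (by simp [hvy])
  have hEv : ∀ c d : K, siegelMap B v' (c • y) (d • v') = d • v' := fun c d => by
    simp [siegelMap_apply, hv'v', hvy]
  have hEy : ∀ c d : K, siegelMap B v' (c • y) (d • y) = d • y + (c * d * B y y) • v' := fun c d => by
    simp only [siegelMap_apply, map_smul, LinearMap.smul_apply, hyv, smul_eq_mul]
    match_scalars <;> ring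
  have hEf : ∀ c d : K, siegelMap B v' (c • y) (d • f₀) =
      d • f₀ - (c * d) • y - (c * c * B y y / 2 * d) • v' := fun c d => by
    simp only [siegelMap_apply, map_smul, LinearMap.smul_apply, hfy, hfv, smul_eq_mul]
    match_scalars <;> ring
  obtain ⟨M, φ, ψ, α, hxy, hxf⟩ := hs.coords ht hL h3 hvf hff hy hvy hfy hx hxv
  have hiso : ∀ a b : K, μ (M a * M b * B y y) = μ (a * b * B y y) := fun a b => by
    have h1 := hs.preserves x hx (a • y) (b • y)
    rw [hxy, hxy] at h1
    simp [hvy, hyv, hv'v'] at h1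
    convert h1 using 2 <;> ring
  have hMc : ∃ η : K, η * η = 1 ∧ ∀ d, M d = η * d := by
    obtain ⟨g, hg, hg'⟩ := hE 1
    -- the conjugate fixes the line and moves its perp along it
    set g' := x * g * x⁻¹ with hg'def
    have hg'X : g' ∈ X := X.mul_mem (X.mul_mem hx hg) (X.inv_mem hx)
    have e : ∀ p, g' (x p) = x (g p) := fun p => by
      show x (g (x.symm (x p))) = _
      rw [x.symm_apply_apply]
    have hgv : ∀ d : K, g' (d • v') = d • v' := fun d => by
      conv_lhs => rw [← hxv d]
      rw [e, hg', hEv, hxv]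
    have hy' : ∀ d : K, g' (M d • y) = M d • y + (d * B y y) • v' := fun d => by
      have h1 := e (d • y)
      rw [hg', hEy, one_mul, map_add x, hxv, hxy, map_add, hgv, add_right_comm, add_left_inj] at h1
      exact h1
    have hM0 : Function.Injective M := fun a b hab => by
      refine sub_eq_zero.1 (hs.eq_zero_of_mu fun d => ?_)
      have h1 : μ (M (a - b) * M (d / B y y) * B y y) = μ ((a - b) * (d / B y y) * B y y) := hiso _ _
      rw [map_sub M, hab, sub_self, zero_mul, zero_mul, map_zero, mul_assoc, div_mul_cancel₀ _ hy] at h1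
      rw [mul_comm]
      exact h1.symm
    obtain ⟨Mi, hMi⟩ := LinearMap.exists_rightInverse_of_surjective M
      (LinearMap.range_eq_top.2 (LinearMap.injective_iff_surjective.1 hM0))
    have hMi' : ∀ c, M (Mi c) = c := fun c => congrFun (congrArg DFunLike.coe hMi) c
    have hgy' : ∀ c, g' (c • y) = c • y + ((mulL (B y y)).comp Mi) c • v' := fun c => by
      have h1 := hy' (Mi c)
      rw [hMi', mul_comm] at h1
      exact h1
    obtain ⟨-, -, ψ', α', -, hgf⟩ := hs.coords ht hL h3 hvf hff hy hvy hfy hg'X hgv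
    set n := -ψ' 1 with hn
    have hn' : ∀ c, Mi c = n * c := fun c => by
      have h1 := hs.middle_scalar ht hL h3 h2a hge hvf hff hy hvy hfy hg'X hgv hgy' hgf c 1
      simp only [LinearMap.comp_apply, mulL_apply, mul_one] at h1
      refine mul_left_cancel₀ hy ?_
      linear_combination -h1 + B y y * c * hn
    have hd : ∀ d, d = n * M d := fun d => by
      rw [← hn']
      exact hM0 (hMi' _).symm
    have hn0 : n ≠ 0 := fun e0 => one_ne_zero (α := K) (by rw [hd 1, e0, zero_mul])
    have hη : ∀ d, M d = n⁻¹ * d := fun d => by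
      conv_rhs => rw [hd d, inv_mul_cancel_left₀ hn0]
    refine ⟨n⁻¹, sub_eq_zero.1 (hs.eq_zero_of_mu fun d => ?_), hη⟩
    have h1 := hiso (d / B y y) 1
    rw [hη, hη, mul_one, mul_one] at h1
    rw [mul_sub, map_sub, mul_one, sub_eq_zero, show d * (n⁻¹ * n⁻¹) = n⁻¹ * (d / B y y) * n⁻¹ * B y y by field_simp,
      h1, div_mul_cancel₀ _ hy]
  obtain ⟨η, hη2, hη⟩ := hMc
  have hη1 : η = 1 := by
    rcases mul_self_eq_one_iff.1 hη2 with e | e
    · exact e
    exfalso
    -- the reflection
    let T : V →ₗ[K] V := reflK B y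
    have hTy : ∀ d : K, T (d • y) = -(d • y) := fun d => by
      simp only [T, reflK_apply, map_smul, LinearMap.smul_apply, smul_eq_mul]
      match_scalars
      field_simp
      ring
    have hTv : ∀ d : K, T (d • v') = d • v' := fun d => by simp [T, reflK_apply, hvy]
    have hTf : ∀ d : K, T (d • f₀) = d • f₀ := fun d => by simp [T, reflK_apply, hfy]
    have hdetT : LinearMap.det (T.restrictScalars F) = -1 := by
      have h1 : LinearMap.det T = -1 := by
        have : T = LinearMap.transvection (-((2 / B y y) • B.flip y)) y := LinearMap.ext fun z => by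
          simp [T, reflK_apply, LinearMap.transvection.apply, sub_eq_add_neg]
        rw [this, LinearMap.transvection.det]
        simp
        field_simp
        norm_num
      rw [LinearMap.det_restrictScalars, h1, ← map_one (algebraMap F K), ← map_neg, Algebra.norm_algebraMap,
        Odd.neg_one_pow (hs.prime.odd_of_ne_two hr2)]
    set N : Module.End F V := (x : V →ₗ[F] V).comp (T.restrictScalars F) - 1 with hN
    have hNv : ∀ d : K, N (d • v') = 0 := fun d => by simp [hN, hTv, hxv]
    have hNy : ∀ d : K, N (d • y) = (-φ d) • v' := fun d => by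
      simp only [hN, LinearMap.sub_apply, LinearMap.comp_apply, LinearMap.restrictScalars_apply, hTy,
        LinearEquiv.coe_coe, map_neg, hxy, Module.End.one_apply]
      rw [hη, e]
      module
    have hNf : ∀ d : K, N (d • f₀) = ψ d • y + α d • v' := fun d => by
      simp only [hN, LinearMap.sub_apply, LinearMap.comp_apply, LinearMap.restrictScalars_apply, hTf,
        LinearEquiv.coe_coe, hxf, Module.End.one_apply]
      abel
    have hN3 : N ^ 3 = 0 := LinearMap.ext fun z => by
      rw [hdec z]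
      simp [pow_succ, Module.End.mul_apply, hNv, hNy, hNf]
    have h1 := det_unipotent hN3
    rw [hN, add_sub_cancel, LinearMap.det_comp, hdetT, hs.det_one x hx, one_mul] at h1
    exact hs.two (by linear_combination -h1)
  -- the coefficient on the opposite line
  have hM1 : ∀ d, M d = d := fun d => by rw [hη, hη1, one_mul]
  have hsc : ∀ c d : K, -φ (c * d) = c * B y y * ψ d :=
    hs.middle_scalar ht hL h3 h2a hge hvf hff hy hvy hfy hx hxv (fun d => by rw [hxy, hM1]) hxf
  set k := -ψ 1 with hk
  have hψ : ∀ d, ψ d = -(k * d) := fun d => by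
    have e1 := hsc 1 d
    have e2 := hsc d 1
    rw [one_mul] at e1
    rw [mul_one] at e2
    refine mul_right_cancel₀ hy ?_
    rw [hk]
    linear_combination -e1 + e2
  have hφ : ∀ d, φ d = k * d * B y y := fun d => by
    have e2 := hsc d 1
    rw [mul_one] at e2
    rw [hk]
    linear_combination -e2
  -- what remains only moves the opposite line
  obtain ⟨p, hp, hp'⟩ := hE k
  let L : K →ₗ[F] K := α + mulL (k * k * B y y / 2)
  have hR : RMem X v' f₀ y L := by
    have hE' : ∀ d : K, p (d • v') = d • v' := fun d => by rw [hp', hEv]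
    refine ⟨x * p⁻¹, X.mul_mem hx (X.inv_mem hp), fun d => ?_, fun d => ?_, fun d => ?_⟩
    · show x (p.symm (d • v')) = _
      rw [show p.symm (d • v') = d • v' by rw [LinearEquiv.symm_apply_eq, hE'], hxv]
    · show x (p.symm (d • y)) = _
      rw [show p.symm (d • y) = d • y - (k * d * B y y) • v' by
        rw [LinearEquiv.symm_apply_eq, map_sub, hE', hp', hEy, add_sub_cancel_right], map_sub, hxy, hxv, hM1, hφ,
        add_sub_cancel_right]
    · show x (p.symm (d • f₀)) = _
      rw [show p.symm (d • f₀) = d • f₀ + (k * d) • y + (k * k * B y y / 2 * d - k * (k * d) * B y y) • v' by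
        rw [LinearEquiv.symm_apply_eq, map_add, map_add, hE', hp', hp', hEf, hEy]
        module, map_add, map_add, hxf, hxy, hxv, hM1, hψ, hφ]
      simp only [L, LinearMap.add_apply, mulL_apply]
      module
  have hL0 := hs.rmem_eq_zero ht hL h3 h2a hge hvf hff hy hvy hfy hR
  refine ⟨k, fun z => ?_⟩
  rw [hdec z]
  simp only [map_add, hxv, hxf, hxy, hM1, hψ, hφ, hEv, hEf, hEy]
  have hα : α (B z v') = -(k * k * B y y / 2 * B z v') := by
    have := congrFun (congrArg DFunLike.coe hL0) (B z v')
    simp only [L, LinearMap.add_apply, mulL_apply, LinearMap.zero_apply] at this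
    linear_combination this
  rw [hα]
  module

/-- The case of small intersections. -/
theorem Setup.false_of_many : False := by
  classical
  haveI : Finite K := Module.finite_of_finite F
  haveI : Module.Finite F V := Module.Finite.trans K V
  haveI : Finite V := Module.finite_of_finite F
  haveI : Finite (V ≃ₗ[F] V) := Finite.of_injective _ DFunLike.coe_injective
  obtain ⟨hh, hv, hvv, hv', hv'v', hmem, -⟩ := ht.trip
  have hr2 := hs.three h3
  set A := img (F := F) K h v ⊓ line K v' with hA
  let G : Subgroup (V ≃ₗ[F] V) :=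
    { carrier := {x | x ∈ X ∧ ∀ a ∈ A, x a = a}
      mul_mem' := fun {p q} hp hq => ⟨X.mul_mem hp.1 hq.1, fun a ha => by
        rw [LinearEquiv.mul_apply, hq.2 a ha, hp.2 a ha]⟩
      one_mem' := ⟨X.one_mem, fun _ _ => rfl⟩
      inv_mem' := fun {p} hp => ⟨X.inv_mem hp.1, fun a ha => by
        show p.symm a = a
        rw [LinearEquiv.symm_apply_eq, hp.2 a ha]⟩ }
  choose E hEX hE using fun k : K => hs.siegel_mem hv'v' (y := k • y) (by simp [hvy])
  have hyv : B y v' = 0 := by rw [hs.symm, hvy]
  have hEv : ∀ k d : K, E k (d • v') = d • v' := fun k d => by simp [hE, siegelMap_apply, hv'v', hvy]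
  have hEG : ∀ k, E k ∈ G := fun k => ⟨hEX k, fun a ha => by
    obtain ⟨d, rfl⟩ := mem_line.1 ha.2
    exact hEv k d⟩
  have hEadd : ∀ k l, E (k + l) = E k * E l := fun k l => LinearEquiv.ext fun z => by
    simp only [LinearEquiv.mul_apply, hE, siegelMap_apply, map_add, map_sub, map_smul, LinearMap.add_apply,
      LinearMap.sub_apply, LinearMap.smul_apply, smul_eq_mul, hv'v', hvy, hyv]
    have := hs.two'
    match_scalars <;> field_simp <;> ring
  let εhom : Multiplicative K →* G :=
    { toFun := fun k => ⟨E k.toAdd, hEG _⟩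
      map_one' := Subtype.ext (LinearEquiv.ext fun z => by simp [hE, siegelMap_apply])
      map_mul' := fun k l => Subtype.ext (hEadd _ _) }
  have hinj : Function.Injective εhom := fun k l e => by
    have h1 : E k.toAdd (1 • y) = E l.toAdd (1 • y) := by rw [show E k.toAdd = E l.toAdd from congrArg Subtype.val e]
    have h2 := congrArg (fun q => B q f₀) h1
    simp [hE, siegelMap_apply, hyv, hvf, hs.symm y f₀, hfy, hy] at h2
    exact Multiplicative.toAdd.injective h2
  set Q := εhom.range
  have hfixQ : ∀ k : K, k ≠ 0 → ∀ z, E k z = z → z ∈ line (F := F) K v' := by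
    intro k hk z hz
    have h2 := congrArg (fun q => B q y) hz
    have h4 := congrArg (fun q => B q f₀) hz
    simp [hE, siegelMap_apply, hvy, hk, hy] at h2
    simp [hE, siegelMap_apply, hvf, hs.symm y f₀, hfy, h2, hk] at h4
    refine mem_line.2 ⟨B z f₀, ?_⟩
    conv_rhs => rw [hs.decomp h3 hv'v' hff hvf hy hvy hfy z]
    simp [h2, h4]
  obtain ⟨a₁, ha₁, ha₁n⟩ : ∃ a ∈ A, a ∉ Submodule.span F {v'} := by
    by_contra! hall
    have := (Submodule.finrank_mono hall).trans (finrank_span_singleton hv').le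
    have h2a' : 2 ≤ finrank F A := h2a
    omega
  -- stabilisers of the line
  have hJ : ∀ x : G, (∀ d : K, (x : V ≃ₗ[F] V) (d • v') ∈ line (F := F) K v') → x ∈ Q := by
    intro x hxl
    have hxv' : (x : V ≃ₗ[F] V) v' = v' := x.2.2 v' ⟨hmem, self_mem_line v'⟩
    obtain ⟨σ, hσ⟩ := hL v' hv' hv'v' _ x.2.1 hxl
    obtain ⟨c, hc⟩ := mem_line.1 ha₁.2
    have hcF : c ∉ Set.range (algebraMap F K) := by
      rintro ⟨s, rfl⟩
      exact ha₁n (Submodule.mem_span_singleton.2 ⟨s, by rw [← hc, algebraMap_smul]⟩)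
    have hfix : σ c = c := by
      have h1 := hσ c
      rw [hxv', hc, x.2.2 a₁ ha₁, ← hc] at h1
      exact (smul_left_injective K hv' h1).symm
    obtain ⟨k, hk⟩ := hs.eq_siegel ht hL h3 h2a hge hvf hff hy hvy hfy x.2.1 fun d => by
      rw [hσ, hxv', algHom_eq_id hs.prime hcF hfix]
    exact ⟨Multiplicative.ofAdd k, Subtype.ext (LinearEquiv.ext fun z => by
      show E k z = _
      rw [hE, hk])⟩
  have hQline : ∀ q ∈ Q, ∀ d : K, (q : V ≃ₗ[F] V) (d • v') = d • v' := by
    rintro _ ⟨k, rfl⟩ d
    exact hEv _ d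
  have hmem1 : εhom (Multiplicative.ofAdd 1) ∈ Q := ⟨_, rfl⟩
  have hne1 : ∀ k : K, εhom (Multiplicative.ofAdd k) ≠ 1 → k ≠ 0 := fun k hk e0 => hk (by
    rw [e0, ofAdd_zero, map_one])
  -- elements commuting with a nontrivial one, or normalising all, stabilise the line
  have hcent : ∀ x : G, ∀ q ∈ Q, q ≠ 1 → x⁻¹ * q * x ∈ Q → x ∈ Q := by
    rintro x _ ⟨k, rfl⟩ hq hxq
    refine hJ x fun d => hfixQ k.toAdd (hne1 _ hq) _ ?_
    have h1 := hQline _ hxq d
    have h2 : (x : V ≃ₗ[F] V).symm (E k.toAdd ((x : V ≃ₗ[F] V) (d • v'))) = d • v' := h1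
    rw [LinearEquiv.symm_apply_eq] at h2
    exact h2
  obtain ⟨p, hp⟩ := CharP.exists F
  haveI : Fact p.Prime := ⟨CharP.char_is_prime F p⟩
  haveI : CharP K p := charP_of_injective_algebraMap (algebraMap F K).injective p
  haveI : Fintype K := Fintype.ofFinite K
  have hQcard : Nat.card Q = Fintype.card K := by
    rw [show Q = εhom.range from rfl, ← Nat.card_congr (MonoidHom.ofInjective hinj).toEquiv]
    exact (Nat.card_congr Multiplicative.toAdd).trans Nat.card_eq_fintype_card
  obtain ⟨n, -, hn⟩ := FiniteField.card K p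
  have hQp : IsPGroup p Q := IsPGroup.of_card (hQcard.trans hn)
  obtain ⟨P, hQP⟩ := hQp.exists_le_sylow
  have hPQ : (P : Subgroup G) = Q := by
    by_contra hne
    have hlt : Q.subgroupOf (P : Subgroup G) < ⊤ := by
      rw [lt_top_iff_ne_top, Ne, Subgroup.subgroupOf_eq_top]
      exact fun hle => hne (le_antisymm hle hQP)
    haveI : Group.IsNilpotent (P : Subgroup G) := P.isPGroup'.isNilpotent
    obtain ⟨g, hg, hgn⟩ := SetLike.exists_of_lt (Group.normalizerCondition_of_isNilpotent _ hlt)
    refine hgn (Subgroup.mem_subgroupOf.2 (hcent g _ hmem1 (fun e => ?_) ?_))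
    · exact one_ne_zero (α := K) (congrArg Multiplicative.toAdd (hinj (e.trans (map_one εhom).symm)))
    · have h1 := (Subgroup.mem_normalizer_iff'.1 hg (g⁻¹ * ⟨_, hQP hmem1⟩))
      have h2 : (⟨_, hQP hmem1⟩ : (P : Subgroup G)) ∈ Q.subgroupOf (P : Subgroup G) := hmem1
      have h3 := (Subgroup.mem_normalizer_iff.1 (inv_mem hg) ⟨_, hQP hmem1⟩).1 h2
      rw [inv_inv] at h3
      exact h3
  haveI hcomm : IsMulCommutative Q := ⟨⟨fun a b => by
    obtain ⟨_, k, rfl⟩ := a
    obtain ⟨_, l, rfl⟩ := b
    exact Subtype.ext (by rw [Subgroup.coe_mul, Subgroup.coe_mul, ← map_mul, mul_comm, map_mul])⟩⟩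
  have hN : Subgroup.normalizer ((P : Subgroup G) : Set G) ≤ Subgroup.centralizer ((P : Subgroup G) : Set G) := by
    intro x hx
    rw [hPQ] at hx ⊢
    have hxQ : x ∈ Q := hcent x _ hmem1 (fun e => by
      exact one_ne_zero (α := K) (congrArg Multiplicative.toAdd (hinj (e.trans (map_one εhom).symm))))
      (by
        have := (Subgroup.mem_normalizer_iff.1 (inv_mem hx) _).1 hmem1
        rwa [inv_inv] at this)
    exact Subgroup.mem_centralizer_iff.2 fun q hq => congrArg Subtype.val (mul_comm' (⟨q, hq⟩ : Q) ⟨x, hxQ⟩)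
  have hc := MonoidHom.ker_transferSylow_isComplement' P hN
  set R := (MonoidHom.transferSylow P hN).ker
  rw [hPQ] at hc
  -- fixed point free action
  have hRbot : R = ⊥ := by
    by_contra hR
    have hfpf : ∀ q ∈ Q, q ≠ 1 → R ⊓ Subgroup.centralizer {q} = ⊥ := by
      intro q hq hq1
      rw [eq_bot_iff]
      rintro x ⟨hxR, hxc⟩
      have hxq : q * x = x * q := (Subgroup.mem_centralizer_singleton_iff.1 hxc).symm
      exact hc.disjoint.le_bot ⟨hxR, hcent x q hq hq1 (by rw [mul_assoc, hxq, inv_mul_cancel_left]; exact hq)⟩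
    have hcyc := CfsgLib.Core.FPF.isCyclic_of_isMulCommutative (A := Q) (K := R)
      (by
        haveI : R.Normal := MonoidHom.normal_ker _
        rw [Subgroup.normalizer_eq_top R]
        exact le_top) hfpf hR le_rfl
    obtain ⟨⟨g, hg⟩, hgen⟩ := hcyc.exists_generator
    obtain ⟨k, rfl⟩ := hg
    have hpow : (⟨εhom k, k, rfl⟩ : Q) ^ p = 1 := Subtype.ext (by
      show εhom k ^ p = 1
      rw [← map_pow, show k ^ p = 1 from Multiplicative.toAdd.injective (by
        rw [toAdd_pow, toAdd_one, nsmul_eq_mul, CharP.cast_eq_zero, zero_mul]), map_one])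
    have h1 : Nat.card Q ≤ p := by
      rw [← orderOf_eq_card_of_forall_mem_zpowers hgen]
      exact Nat.le_of_dvd (CharP.char_is_prime F p).pos (orderOf_dvd_of_pow_eq_one hpow)
    rw [hQcard, Module.card_eq_pow_finrank (K := F) (V := K)] at h1
    obtain ⟨m, -, hm⟩ := FiniteField.card F p
    have h2 : p ^ 2 ≤ Fintype.card F ^ finrank F K := by
      rw [hm]
      refine le_trans ?_ (Nat.pow_le_pow_left (Nat.le_self_pow m.ne_zero p) _)
      exact Nat.pow_le_pow_right (CharP.char_is_prime F p).pos hs.prime.two_le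
    have h4 := (CharP.char_is_prime F p).two_le
    nlinarith
  have htop : Q = ⊤ := by
    have h1 := hc.sup_eq_top
    rwa [hRbot, bot_sup_eq] at h1
  -- an element fixing the image
  obtain ⟨w, hw, hwn⟩ := hs.exists_outside ht.trip
  obtain ⟨fv, hfv, hfv'⟩ := hs.exists_partner hv hvv
  obtain ⟨y', hy', hvy', -⟩ := hs.exists_aniso_perp_hyp hvv hfv' hfv
  obtain ⟨e, he, he'⟩ := hs.siegel_mem hvv hvy'
  have hgW : ∀ z ∈ img (F := F) K h v, (h * e * h⁻¹) z = z := fun z hz => by
    obtain ⟨d, rfl⟩ := mem_img.1 hz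
    show h (e (h.symm (h (d • v)))) = _
    rw [h.symm_apply_apply]
    simp [he', siegelMap_apply, hvy', hvv]
  have hgG : h * e * h⁻¹ ∈ G := ⟨X.mul_mem (X.mul_mem hh he) (X.inv_mem hh), fun a ha => hgW a ha.1⟩
  obtain ⟨k, hk⟩ : (⟨_, hgG⟩ : G) ∈ Q := htop ▸ Subgroup.mem_top _
  have hk' : E k.toAdd = h * e * h⁻¹ := congrArg Subtype.val hk
  refine hwn (hfixQ k.toAdd (fun e0 => hy' ?_) w (by rw [hk', hgW w hw]))
  have h1 : e y' = y' := by
    have h2 : (h * e * h⁻¹) (h y') = h y' := by
      rw [← hk', e0, hE]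
      simp [siegelMap_apply]
    simpa [LinearEquiv.mul_apply] using h2
  have h2 := congrArg (fun q => B q fv) h1
  simpa [he', siegelMap_apply, hfv, hs.symm y' v, hvy'] using h2

end CfsgLib.Geo.OrthExt
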