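/-
The dichotomy for the overgroups: semilinear, or containing all root elements.
-/
import Cfsg.Agent.Lib.Geo.OrthExt.Root
import Cfsg.Agent.Lib.Geo.OrthExt.ThreeBig

set_option autoImplicit false

namespace CfsgLib.Geo.OrthExt

open Module LinearMap CfsgLib.Geo.FieldExt CfsgLib.Classical.Quad
open LinearMap (BilinForm)
open QuadraticMap (polar polarBilin)

variable {F K V : Type*} [Field F] [Fintype F] [Field K] [Algebra F K] [AddCommGroup V] [Module F V] [Module K V]
  [IsScalarTower F K V] [FiniteDimensional F K] [FiniteDimensional K V]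
  {B : BilinForm K V} {μ : K →ₗ[F] F} {X : Subgroup (V ≃ₗ[F] V)} (hs : Setup B μ X)
include hs

/-- Every overgroup is semilinear or contains the root elements of all singular lines. -/
theorem Setup.semilinear_or_rooted :
    (∀ g ∈ X, ∃ σ : K →ₐ[F] K, ∀ (k : K) y, g (k • y) = σ k • g y) ∨
      ∀ w : V, w ≠ 0 → B w w = 0 → Rooted B μ X w := by
  haveI : Module.Finite F V := Module.Finite.trans K V
  by_cases hL : LinesSemi B X
  · refine Or.inl fun g hg => ?_
    by_contra hns
    obtain ⟨h, v, v', ht⟩ := hs.exists_maxT (hs.exists_trip hL hg hns)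
    rcases hs.rank.eq_or_lt with h3 | h4
    · obtain ⟨f₀, hvf, hff⟩ := hs.exists_partner ht.trip.ne' ht.trip.sing'
      obtain ⟨y, hy, hvy, hfy⟩ := hs.exists_aniso_perp_hyp ht.trip.sing' hff hvf
      have h2a := hs.two_le_inter ht hL h3.symm
      rcases lt_or_ge (finrank F K) (2 * finrank F (img (F := F) K h v ⊓ line K v' : Submodule F V)) with hlt | hge
      · exact hs.false_of_few ht hL h3.symm h2a hlt
      · exact hs.false_of_many ht hL h3.symm h2a hge hvf hff hy hvy hfy
    · exact hs.false_of_four ht hL h4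
  · simp only [LinesSemi, not_forall] at hL
    obtain ⟨u, hu0, hu, x, hx, hxl, hns⟩ := hL
    exact Or.inr fun w hw0 hw => hs.rooted_all hu0 hu (hs.rooted_of_not_semi hu0 hu hx hxl hns) hw0 hw

/-- Some element of the orthogonal group over the smaller field is not semilinear. -/
theorem Setup.exists_not_semilinear [FiniteDimensional F V] {Q : QuadraticForm F V} (hQ : (polarBilin Q).Nondegenerate)
    (hp : ∀ x y, polar Q x y = μ (B x y)) (hn : 5 ≤ finrank F V) :
    ∃ x : OQ Q, x ∈ eichGroup hQ ∧
      ¬ ∀ k : K, ∃ k' : K, ∀ y, (x : V ≃ₗ[F] V) (k • y) = k' • (x : V ≃ₗ[F] V) y := by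
  haveI : Finite K := Module.finite_of_finite F
  obtain ⟨u, hu0, hu⟩ := hs.exists_singular
  obtain ⟨f, huf, hff⟩ := hs.exists_partner hu0 hu
  obtain ⟨c, hc, hc0⟩ := (Submodule.ne_bot_iff (LinearMap.ker μ)).1 (fun e => by
    have h1 := LinearMap.finrank_range_add_finrank_ker μ
    have h2 := (Submodule.finrank_le (LinearMap.range μ)).trans (Module.finrank_self F).le
    have := hs.prime.two_le
    rw [e, finrank_bot] at h1
    omega)
  rw [LinearMap.mem_ker] at hc
  have hw : Q u = 0 := hs.q_singular hp hu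
  have ha : polar Q u (c • u) = 0 := by rw [hp, map_smul, hu, smul_zero, map_zero]
  refine ⟨eich hQ hw ha, eich_mem hQ hn hw ha, fun hsl => ?_⟩
  obtain ⟨k', hk'⟩ := hsl c
  have h1 := hk' f
  have hfu : B f u = 1 := by rw [hs.symm, huf]
  have hqa : Q (c • u) = 0 := hs.q_singular hp (by simp [hu])
  simp only [eich_apply, hp, hqa, map_smul, LinearMap.smul_apply, hfu, smul_eq_mul, mul_one, mul_zero, zero_mul,
    sub_zero, hc, hs.mu_one, zero_smul, add_zero, neg_smul, one_smul] at h1
  have h2 := congrArg (fun q => B u q) h1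
  simp [← algebraMap_smul K, hu, huf] at h2
  rw [← h2] at h1
  have h4 : (-(c * c) - algebraMap F K (μ (c * c))) • u = 0 := by
    simp only [← algebraMap_smul K (μ (c * c)) u] at h1
    linear_combination (norm := module) -h1
  rw [smul_eq_zero, or_iff_left hu0, sub_eq_zero] at h4
  have h5 := congrArg μ h4
  rw [Algebra.algebraMap_eq_smul_one, map_neg, map_smul, hs.mu_one, smul_eq_mul, mul_one] at h5
  have h6 : μ (c * c) = 0 := (mul_eq_zero.1 (show (2 : F) * μ (c * c) = 0 by linear_combination -h5)).resolve_left hs.two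
  rw [h6, map_zero, neg_eq_zero, mul_self_eq_zero] at h4
  exact hc0 h4

end CfsgLib.Geo.OrthExt
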