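/-
Quadratic extensions in dimension four: the whole root group of a point that is only singular over the smaller field.
-/
import Cfsg.Agent.Lib.Geo.OrthExt.Root

set_option autoImplicit false

namespace CfsgLib.Geo.OrthExt

open Module LinearMap CfsgLib.Geo.FieldExt CfsgLib.Classical.Quad CfsgLib.Geo.OrthMax CfsgLib.Geo.OrthBlock
open LinearMap (BilinForm)
open QuadraticMap (polar polarBilin)

variable {F K V : Type*} [Field F] [Fintype F] [Field K] [Algebra F K] [AddCommGroup V] [Module F V] [Module K V]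
  [IsScalarTower F K V] [FiniteDimensional F K] [FiniteDimensional K V] [FiniteDimensional F V]
  {B : BilinForm K V} {μ : K →ₗ[F] F} {X : Subgroup (V ≃ₗ[F] V)} (hs : Setup B μ X)
  {Q : QuadraticForm F V} (hQ : (polarBilin Q).Nondegenerate) (hp : ∀ x y, polar Q x y = μ (B x y))
include hs hp

omit [Fintype F] [FiniteDimensional F K] [FiniteDimensional K V] in
include hQ in
/-- Differences along elements of `X` fixing the point. -/
theorem Setup.diff_mem {x : V ≃ₗ[F] V} (hx : x ∈ X) {p b : V} (hxp : x p = p)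
    (hb : b ∈ rootSpace hQ (X.subgroupOf (OQ Q)) p) : x b - b ∈ rootSpace hQ (X.subgroupOf (OQ Q)) p := by
  have hxO : x ∈ OQ Q := mem_OQ.2 fun z => by
    have h1 := hs.preserves x hx z z
    rw [← hp, ← hp, polar_self', polar_self'] at h1
    exact mul_left_cancel₀ hs.two h1
  exact rootSpace_diff (g := ⟨x, hxO⟩) (Subgroup.mem_subgroupOf.2 hx) hxp hb

omit [Fintype F] [FiniteDimensional F K] [FiniteDimensional K V] in
include hQ in
/-- A vector of the root space and a singular vector not perpendicular to it spread to whole lines. -/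
theorem Setup.lines_mem {p a x y : V} (hx : B x x = 0) (hxy : B x y = 0) (hy : B y y ≠ 0) (hpx : B p x = 0)
    (hpy : B p y = 0) (ha : a ∈ rootSpace hQ (X.subgroupOf (OQ Q)) p) (hax : B a x ≠ 0) :
    (∀ c : K, c • x ∈ rootSpace hQ (X.subgroupOf (OQ Q)) p) ∧
      ∀ c : K, c • y ∈ rootSpace hQ (X.subgroupOf (OQ Q)) p := by
  have h2 := hs.two'
  set S := rootSpace hQ (X.subgroupOf (OQ Q)) p with hS
  have hd : ∀ t : K, (t * B a y) • x - (B a x * t) • y - (t * t * (B y y / 2) * B a x) • x ∈ S := fun t => by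
    obtain ⟨g, hg, hg'⟩ := hs.siegel_mem hx (y := t • y) (by rw [map_smul, hxy, smul_zero])
    have h1 := hs.diff_mem hQ hp hg (p := p) (b := a)
      (by rw [hg']; simp [siegelMap_apply, hpx, hpy]) ha
    rw [hg', siegelMap_apply] at h1
    convert h1 using 1
    simp only [map_smul, LinearMap.smul_apply, smul_eq_mul]
    match_scalars <;> ring
  have hsq : ∀ t : K, (t * t * (B y y * B a x)) • x ∈ S := fun t => by
    have h1 := S.neg_mem (S.add_mem (hd t) (hd (-t)))
    convert h1 using 1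
    match_scalars <;> field_simp <;> ring
  have hx' : ∀ c : K, c • x ∈ S := fun c => by
    set e := B y y * B a x with he
    have he0 : e ≠ 0 := mul_ne_zero hy hax
    have h1 := S.sub_mem (hsq ((c / e + 1) / 2)) (hsq ((c / e - 1) / 2))
    convert h1 using 1
    rw [← sub_smul]
    congr 1
    field_simp
    ring
  refine ⟨hx', fun c => ?_⟩
  have h1 := S.sub_mem (hx' (c / B a x * B a y - c / B a x * (c / B a x) * (B y y / 2) * B a x)) (hd (c / B a x))
  convert h1 using 1
  match_scalars <;> field_simp <;> ring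

omit [FiniteDimensional F V] in
theorem Setup.exists_half (hr : finrank F K = 2) : ∃ (j i : K) (s : F), μ j = 0 ∧ j ≠ 0 ∧
    j = i + algebraMap F K s ∧ i * i ∈ Set.range (algebraMap F K) ∧ j * j = algebraMap F K (μ (j * j)) + (2 * s) • j ∧
    ∀ y : K, μ y = 0 → ∃ t : F, y = t • j := by
  obtain ⟨j, hj, hj0⟩ := (Submodule.ne_bot_iff (LinearMap.ker μ)).1 (fun e => by
    have h1 := LinearMap.finrank_range_add_finrank_ker μ
    have h2 := (Submodule.finrank_le (LinearMap.range μ)).trans (Module.finrank_self F).le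
    rw [e, finrank_bot, hr] at h1
    omega)
  rw [LinearMap.mem_ker] at hj
  have hker : ∀ y : K, μ y = 0 → ∃ t : F, y = t • j := by
    intro y hy
    have h1 : finrank F (LinearMap.ker μ) = 1 := by
      have h1 := LinearMap.finrank_range_add_finrank_ker μ
      rw [LinearMap.range_eq_top.2 fun c => ⟨c • 1, by rw [map_smul, hs.mu_one, smul_eq_mul, mul_one]⟩, finrank_top,
        Module.finrank_self, hr] at h1
      omega
    obtain ⟨t, ht⟩ := (finrank_eq_one_iff_of_nonzero' (⟨j, hj⟩ : LinearMap.ker μ)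
      (fun e => hj0 (congrArg Subtype.val e))).1 h1 ⟨y, hy⟩
    exact ⟨t, (congrArg Subtype.val ht).symm⟩
  obtain ⟨t, ht⟩ := hker (j * j - algebraMap F K (μ (j * j))) (by
    rw [map_sub, Algebra.algebraMap_eq_smul_one, map_smul, hs.mu_one, smul_eq_mul, mul_one, sub_self])
  refine ⟨j, j - algebraMap F K (t / 2), t / 2, hj, hj0, by ring, ⟨μ (j * j) + t / 2 * (t / 2), ?_⟩, ?_, hker⟩
  · rw [map_add, map_mul (algebraMap F K)]
    have : (2 : K) * algebraMap F K (t / 2) = algebraMap F K t := by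
      rw [← map_ofNat (algebraMap F K) 2, ← map_mul, mul_div_cancel₀ _ hs.two]
    rw [Algebra.smul_def, ← this] at ht
    linear_combination -ht
  · rw [show 2 * (t / 2) = t from mul_div_cancel₀ _ hs.two]
    linear_combination ht

include hQ in
/-- The root group of a point over the smaller field. -/
theorem Setup.hasRoot_twist (hr : finrank F K = 2) (h4 : finrank K V = 4)
    (hR : ∀ w : V, w ≠ 0 → B w w = 0 → Rooted B μ X w) {u f : V} (hu : B u u = 0) (hf : B f f = 0)
    (huf : B u f = 1) {j i : K} {s : F} (hj : μ j = 0) (hj0 : j ≠ 0) (hji : j = i + algebraMap F K s)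
    (hjj : j * j = algebraMap F K (μ (j * j)) + (2 * s) • j) (hker : ∀ y : K, μ y = 0 → ∃ t : F, y = t • j) :
    HasRoot hQ (X.subgroupOf (OQ Q)) (u - j • f) := by
  haveI : Finite K := Module.finite_of_finite F
  have h2 := hs.two'
  have hfu : B f u = 1 := by rw [hs.symm, huf]
  have hu0 : u ≠ 0 := fun e => by simp [e] at huf
  have hf0 : f ≠ 0 := fun e => by simp [e] at huf
  set p := u - j • f with hpdef
  set S := rootSpace hQ (X.subgroupOf (OQ Q)) p with hS
  -- the point is in its own root space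
  have hqp : Q p = 0 := by
    have h := polar_self' (Q := Q) p
    rw [hp, hpdef, hs.symm] at h
    simp [hu, hf, huf, hfu, hj] at h
    exact h.resolve_left hs.two
  have hpp : B p p = -(2 * j) := by simp [hpdef, hu, hf, huf, hfu]; ring
  have hpp0 : B p p ≠ 0 := by rw [hpp]; exact neg_ne_zero.2 (mul_ne_zero h2 hj0)
  have hpS : p ∈ S := ⟨by rw [polar_self', hqp, mul_zero], fun c hw ha => by
    rw [Subgroup.mem_subgroupOf]
    convert X.one_mem using 1
    refine LinearEquiv.ext fun z => ?_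
    rw [eich_apply, apply_smul, hqp, mul_zero, polar_smul_right']
    show _ = z
    module⟩
  -- a conjugate of a line
  obtain ⟨g, hg, hg'⟩ := hR f hf0 hf f (self_mem_line f) _ (mem_line.2 ⟨j, rfl⟩)
  have hgu : g u = p := by
    rw [hg', tMap_apply, map_smul, smul_eq_mul, huf, mul_one, hj, hs.mu_one, zero_smul, one_smul, hpdef]
    abel
  have hgju : g (j • u) = j • u + μ (j * j) • f := by
    rw [hg', tMap_apply]
    simp [huf, hj]
  have hgO : g ∈ OQ Q := mem_OQ.2 fun z => by
    have h1 := hs.preserves g hg z z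
    rw [← hp, ← hp, polar_self', polar_self'] at h1
    exact mul_left_cancel₀ hs.two h1
  have ha' : g (j • u) ∈ S := by
    have h1 := mem_rootSpace_conj (g := ⟨g, hgO⟩) (Subgroup.mem_subgroupOf.2 hg)
      (hs.line_le_rootSpace hQ hp hu (hR u hu0 hu) (mem_line.2 ⟨j, rfl⟩))
    rw [hS, ← hgu]
    exact h1
  set w₁ := u + j • f with hw₁
  have ha : i • w₁ ∈ S := by
    have h1 := S.sub_mem ha' (S.smul_mem s hpS)
    convert h1 using 1
    rw [Algebra.smul_def, map_mul (algebraMap F K), map_ofNat] at hjj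
    rw [hgju, hw₁, hpdef, ← algebraMap_smul K (μ (j * j)), ← algebraMap_smul K s (u - j • f)]
    match_scalars
    · linear_combination -hji
    · linear_combination hjj - j * hji
  have hi0 : i ≠ 0 := fun e => by
    rw [e, zero_add] at hji
    rw [hji, Algebra.algebraMap_eq_smul_one, map_smul, hs.mu_one, smul_eq_mul, mul_one] at hj
    rw [hj, map_zero] at hji
    exact hj0 hji
  -- an orthogonal frame
  obtain ⟨m₁, hm₁, hum₁, hfm₁⟩ := hs.exists_aniso_perp_hyp hu hf huf
  obtain ⟨m₂, hm₂, hum₂, hfm₂, h12⟩ := hs.exists_aniso_perp_three hu hf huf hm₁ hum₁ hfm₁ h4.ge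
  obtain ⟨a, b, hab⟩ := hs.exists_value hm₁ hm₂ h12 (-(2 * j))
  set m' := a • m₁ + b • m₂ with hm'
  have hum' : B u m' = 0 := by simp [hm', hum₁, hum₂]
  have hfm' : B f m' = 0 := by simp [hm', hfm₁, hfm₂]
  have hm'0 : B m' m' ≠ 0 := by rw [hab]; exact neg_ne_zero.2 (mul_ne_zero h2 hj0)
  obtain ⟨y, hy, huy, hfy, hm'y⟩ := hs.exists_aniso_perp_three hu hf huf hm'0 hum' hfm' h4.ge
  have hsym := hs.symm
  have hw₁w₁ : B w₁ w₁ = 2 * j := by simp [hw₁, hu, hf, huf, hfu]; ring
  have hw₁m : B w₁ m' = 0 := by simp [hw₁, hum', hfm']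
  have hw₁y : B w₁ y = 0 := by simp [hw₁, huy, hfy]
  have hpw₁ : B p w₁ = 0 := by simp [hpdef, hw₁, hu, hf, huf, hfu]
  have hpm : B p m' = 0 := by simp [hpdef, hum', hfm']
  have hpy : B p y = 0 := by simp [hpdef, huy, hfy]
  obtain ⟨hl1, hly⟩ := hs.lines_mem hQ hp (p := p) (a := i • w₁) (x := w₁ + m') (y := y)
    (by rw [hs.self_add, hw₁w₁, hab, hw₁m]; ring) (by simp [hw₁y, hm'y]) hy (by simp [hpw₁, hpm]) hpy ha
    (by simp [hw₁w₁, hw₁m, hi0, h2, hj0])
  obtain ⟨hl2, -⟩ := hs.lines_mem hQ hp (p := p) (a := i • w₁) (x := w₁ - m') (y := y)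
    (by simp [hw₁w₁, hab, hw₁m, hsym m' w₁]) (by simp [hw₁y, hm'y]) hy (by simp [hpw₁, hpm]) hpy ha
    (by simp [hw₁w₁, hw₁m, hi0, h2, hj0])
  have hlw : ∀ c : K, c • w₁ ∈ S := fun c => by
    have h1 := S.add_mem (hl1 (c / 2)) (hl2 (c / 2))
    convert h1 using 1
    match_scalars <;> field_simp <;> ring
  have hlm : ∀ c : K, c • m' ∈ S := fun c => by
    have h1 := S.sub_mem (hl1 (c / 2)) (hl2 (c / 2))
    convert h1 using 1
    match_scalars <;> field_simp <;> ring
  -- everything perpendicular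
  intro z hw hz
  suffices hmem : z ∈ S by
    have h1 := hmem.2 1
    rw [one_smul] at h1
    exact h1 hw hz
  set v := ![p, w₁, m', y] with hv
  have hortho : B.IsOrthoᵢ v := by
    intro k l hkl
    show B (v k) (v l) = 0
    fin_cases k <;> fin_cases l <;>
      first
        | exact absurd rfl hkl
        | simp [hv, hpw₁, hpm, hpy, hw₁m, hw₁y, hm'y, hsym w₁ p, hsym m' p, hsym y p, hsym m' w₁,
            hsym y w₁, hsym y m']
  have hli : LinearIndependent K v := LinearMap.linearIndependent_of_isOrthoᵢ hortho fun k => by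
    fin_cases k <;> simp [LinearMap.IsOrtho, hv, hpp, hw₁w₁, hab, hy, h2, hj0]
  have htop : Submodule.span K (Set.range v) = ⊤ :=
    hli.span_eq_top_of_card_eq_finrank (by rw [h4]; rfl)
  obtain ⟨c, hc⟩ := (Submodule.mem_span_range_iff_exists_fun K).1 (htop ▸ Submodule.mem_top (x := z))
  simp [Fin.sum_univ_four, hv] at hc
  rw [hp] at hz
  have hcp : μ (c 0 * B p p) = 0 := by
    have e : B p z = c 0 * B p p := by rw [← hc]; simp [hpw₁, hpm, hpy]
    rwa [e] at hz
  obtain ⟨t, ht⟩ := hker _ (show μ (c 0 * j) = 0 by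
    rw [hpp, mul_neg, map_neg, neg_eq_zero, mul_left_comm, ← map_ofNat (algebraMap F K) 2, ← Algebra.smul_def,
      map_smul, smul_eq_mul, mul_eq_zero] at hcp
    exact hcp.resolve_left hs.two)
  have hct : c 0 = algebraMap F K t := mul_right_cancel₀ hj0 (by rw [ht, Algebra.smul_def])
  rw [← hc, hct, algebraMap_smul]
  exact S.add_mem (S.add_mem (S.add_mem (S.smul_mem t hpS) (hlw _)) (hlm _)) (hly _)

/-- All root elements give the whole group, for quadratic extensions in dimension four. -/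
theorem Setup.eichGroup_le_four (hr : finrank F K = 2) (h4 : finrank K V = 4)
    (hR : ∀ w : V, w ≠ 0 → B w w = 0 → Rooted B μ X w) (hn : 5 ≤ finrank F V) :
    eichGroup hQ ≤ X.subgroupOf (OQ Q) := by
  haveI : Finite K := Module.finite_of_finite F
  have h2 := hs.two'
  obtain ⟨u, hu0, hu⟩ := hs.exists_singular
  obtain ⟨f, huf, hf⟩ := hs.exists_partner hu0 hu
  have hfu : B f u = 1 := by rw [hs.symm, huf]
  obtain ⟨j, i, s, hj, hj0, hji, -, hjj, hker⟩ := hs.exists_half hp hr
  have hp' := hs.hasRoot_twist hQ hp hr h4 hR hu hf huf hj hj0 hji hjj hker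
  obtain ⟨y, hy, huy, hfy⟩ := hs.exists_aniso_perp_hyp hu hf huf
  obtain ⟨t, ht⟩ : ∃ t : K, μ (j * j * (t * t * B y y)) ≠ 0 := by
    by_contra! hall
    have h1 : ∀ d : K, μ (d * (j * j * B y y)) = 0 := fun d => by
      have e : d * (j * j * B y y) = j * j * ((d + 1) / 2 * ((d + 1) / 2) * B y y) -
          j * j * ((d - 1) / 2 * ((d - 1) / 2) * B y y) := by field_simp; ring
      rw [e, map_sub, hall, hall, sub_self]
    exact mul_ne_zero (mul_ne_zero hj0 hj0) hy (hs.eq_zero_of_mu h1)
  obtain ⟨g, hg, hg'⟩ := hs.siegel_mem hu (y := t • y) (by rw [map_smul, huy, smul_zero])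
  have hgO : g ∈ OQ Q := mem_OQ.2 fun z => by
    have h1 := hs.preserves g hg z z
    rw [← hp, ← hp, polar_self', polar_self'] at h1
    exact mul_left_cancel₀ hs.two h1
  set p := u - j • f with hpdef
  have hq : HasRoot hQ (X.subgroupOf (OQ Q)) (g p) := hp'.conj hQ (g := ⟨g, hgO⟩) (Subgroup.mem_subgroupOf.2 hg)
  have hne : polar Q p (g p) ≠ 0 := by
    have hgp : g p = p + (j * t) • y + (j * (t * t * B y y / 2)) • u := by
      rw [hg', siegelMap_apply, hpdef]
      simp [hu, hfu, huy, hfy]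
      match_scalars <;> ring
    have e : B p (g p) = -(2 * j) - j * j * (t * t * B y y) / 2 := by
      rw [hgp, hpdef]
      simp [hu, hf, huf, hfu, huy, hfy]
      ring
    intro h0
    rw [hp, e, map_sub, map_neg, show (2 : K) * j = (2 : F) • j by rw [Algebra.smul_def, map_ofNat], map_smul, hj,
      smul_zero, neg_zero, zero_sub, neg_eq_zero,
      show j * j * (t * t * B y y) / 2 = (2 : F)⁻¹ • (j * j * (t * t * B y y)) by
        rw [Algebra.smul_def, map_inv₀, map_ofNat]; ring, map_smul, smul_eq_mul, mul_eq_zero,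
      or_iff_right (inv_ne_zero hs.two)] at h0
    exact ht h0
  have hq0 : Q p = 0 := by
    have h := polar_self' (Q := Q) p
    rw [hp, hpdef] at h
    simp [hu, hf, huf, hfu, hj] at h
    exact h.resolve_left hs.two
  refine OrthBlock.le_of_pair hn hq0 (f := (polar Q p (g p))⁻¹ • g p) ?_ ?_ hp' ?_
  · rw [apply_smul, OQ.map_apply (⟨g, hgO⟩ : OQ Q), hq0, mul_zero]
  · rw [polar_smul_right', inv_mul_cancel₀ hne]
  · exact HasRoot.of_smul hQ hne (by rwa [smul_inv_smul₀ hne])

end CfsgLib.Geo.OrthExt
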