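/-
Normalisers of self-adjoint field subalgebras of prime degree are maximal in `Ω`.
-/
import Cfsg.Agent.Lib.Geo.OrthExt.Final
import Cfsg.Agent.Lib.Geo.OrthExt.RootFour
import Cfsg.Agent.Lib.Geo.OrthOverfieldMax
import Cfsg.Agent.Lib.Geo.FieldExtSympOne
import Cfsg.Prelude.Def_GeometricClasses

set_option autoImplicit false

namespace CfsgLib.Geo.OrthExt

open CfsgLib.Classical CfsgLib.Classical.Quad CfsgLib.Geo.OrthMax CfsgLib.Geo.FieldExt
open CfsgLib.Geo.FieldExtSymp (exists_eq_mul eq_zero_of_forall)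
open LinearMap (BilinForm)
open QuadraticMap (polar polarBilin)
open Matrix

/-- Squares lie in the commutator subgroup of an orthogonal group. -/
theorem mul_self_mem_commutator {F V : Type*} [Field F] [Finite F] [AddCommGroup V] [Module F V]
    [FiniteDimensional F V] {Q : QuadraticForm F V} (hQ : (polarBilin Q).Nondegenerate)
    (hn : 5 ≤ Module.finrank F V) (g : OQ Q) : g * g ∈ commutator (OQ Q) := by
  have h1 : ∀ g : OQ Q, (Abelianization.of g) * (Abelianization.of g) = 1 := by
    intro g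
    have hg : g ∈ Subgroup.closure _ := (reflGroup_eq_top hQ (Or.inr (by omega))).ge (Subgroup.mem_top g)
    induction hg using Subgroup.closure_induction with
    | mem x hx =>
      obtain ⟨v, hv, rfl⟩ := hx
      rw [← map_mul, refl_mul_self, map_one]
    | one => rw [map_one, mul_one]
    | mul x y _ _ hx hy => rw [map_mul, mul_mul_mul_comm, hx, hy, mul_one]
    | inv x _ hx => rw [map_inv, ← mul_inv, hx, inv_one]
  have h2 : Abelianization.of (g * g) = 1 := by rw [map_mul]; exact h1 g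
  rw [← MonoidHom.mem_ker, Abelianization.ker_of] at h2
  exact h2

variable {F : Type*} [Field F] [Fintype F] {ι : Type} [Fintype ι] [DecidableEq ι]

omit [Fintype F] in
/-- The degree of a field subalgebra divides the dimension. -/
theorem finrank_dvd (K : Subalgebra F (Matrix ι ι F)) [Nontrivial K] {r : ℕ}
    (hK : Cfsg.Geo.IsFieldSubalgebra r K) : Module.finrank F K ∣ Module.finrank F (ι → F) := by
  have hKf : IsField K := ⟨⟨0, 1, zero_ne_one⟩, fun a b => Subtype.ext (hK.comm a.1 a.2 b.1 b.2), fun {a} ha => by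
    obtain ⟨y, hy, e⟩ := hK.inv a.1 a.2 (fun h => ha (Subtype.ext h))
    exact ⟨⟨y, hy⟩, Subtype.ext e⟩⟩
  letI : Field K := @IsField.toField K (inferInstance : Ring K) hKf
  letI : Module K (ι → F) :=
    { smul := fun k v => (k : Matrix ι ι F) *ᵥ v
      one_smul := fun v => Matrix.one_mulVec v
      mul_smul := fun a b v => (Matrix.mulVec_mulVec v (a : Matrix ι ι F) b).symm
      smul_zero := fun a => Matrix.mulVec_zero _
      smul_add := fun a u v => Matrix.mulVec_add _ u v
      add_smul := fun a b v => Matrix.add_mulVec _ _ v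
      zero_smul := fun v => Matrix.zero_mulVec v }
  haveI : IsScalarTower F K (ι → F) := ⟨fun c k v => Matrix.smul_mulVec c (k : Matrix ι ι F) v⟩
  exact ⟨_, (Module.finrank_mul_finrank F K (ι → F)).symm⟩

theorem isMaximalIn_omega {Q : QuadraticForm F (ι → F)} (hQ : (polarBilin Q).Nondegenerate) (h2 : (2 : F) ≠ 0)
    (hn : 7 ≤ Fintype.card ι) {r : ℕ} (hr : r.Prime) (hnr : 3 * r ≤ Fintype.card ι)
    (K : Subalgebra F (Matrix ι ι F)) (hK : Cfsg.Geo.IsFieldSubalgebra r K)
    (hsa : Cfsg.Geo.IsSelfAdjointFor (polar (⇑Q)) K) :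
    Cfsg.Geo.IsMaximalIn (Cfsg.Geo.omegaGL (⇑Q))
      (Cfsg.Geo.subalgebraNormalizer K ⊓ Cfsg.Geo.omegaGL (⇑Q)) := by
  classical
  haveI : Nonempty ι := Fintype.card_pos_iff.1 (by omega)
  haveI : Nontrivial K := ⟨⟨0, 1, zero_ne_one⟩⟩
  have hKf : IsField K := ⟨⟨0, 1, zero_ne_one⟩, fun a b => Subtype.ext (hK.comm a.1 a.2 b.1 b.2), fun {a} ha => by
    obtain ⟨y, hy, e⟩ := hK.inv a.1 a.2 (fun h => ha (Subtype.ext h))
    exact ⟨⟨y, hy⟩, Subtype.ext e⟩⟩
  letI : Field K := @IsField.toField K (inferInstance : Ring K) hKf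
  letI : Module K (ι → F) :=
    { smul := fun k v => (k : Matrix ι ι F) *ᵥ v
      one_smul := fun v => Matrix.one_mulVec v
      mul_smul := fun a b v => (Matrix.mulVec_mulVec v (a : Matrix ι ι F) b).symm
      smul_zero := fun a => Matrix.mulVec_zero _
      smul_add := fun a u v => Matrix.mulVec_add _ u v
      add_smul := fun a b v => Matrix.add_mulVec _ _ v
      zero_smul := fun v => Matrix.zero_mulVec v }
  haveI : IsScalarTower F K (ι → F) := ⟨fun c k v => Matrix.smul_mulVec c (k : Matrix ι ι F) v⟩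
  haveI : FiniteDimensional F K := Module.finite_of_finrank_pos (by rw [hK.finrank_eq]; exact hr.pos)
  haveI : FiniteDimensional K (ι → F) := Module.Finite.of_restrictScalars_finite F K _
  haveI : Finite K := Finite.of_injective _ Subtype.val_injective
  have hdim := Module.finrank_mul_finrank F K (ι → F)
  rw [hK.finrank_eq, Module.finrank_pi] at hdim
  have hd3 : 3 ≤ Module.finrank K (ι → F) := by
    by_contra! hlt
    have := Nat.mul_le_mul_left r (Nat.le_of_lt_succ hlt)
    have := hr.pos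
    omega
  -- the form over the field
  obtain ⟨μ, hμ⟩ := exists_functional' (K := F) (V := K) (u := (1 : K)) one_ne_zero
  let f : BilinForm F (ι → F) := polarBilin Q
  have hf : ∀ u v, f u v = polar Q u v := fun u v => rfl
  let Φ : (ι → F) → (ι → F) → (K →ₗ[F] F) := fun u v =>
    { toFun := fun k => f (k • u) v
      map_add' := fun a b => by rw [add_smul, map_add, LinearMap.add_apply]
      map_smul' := fun s a => by rw [smul_assoc, map_smul, LinearMap.smul_apply, RingHom.id_apply] }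
  choose b hb using fun u v => exists_eq_mul hμ (Φ u v)
  have hb' : ∀ u v (k : K), f (k • u) v = μ (b u v * k) := hb
  have huniq : ∀ {x y : K}, (∀ k, μ (x * k) = μ (y * k)) → x = y := fun h =>
    sub_eq_zero.1 (eq_zero_of_forall hμ fun k => by rw [sub_mul, map_sub, h, sub_self])
  have hsa' : ∀ (k : K) u v, f (k • u) v = f u (k • v) := fun k u v => hsa k.1 k.2 u v
  have bsymm : ∀ u v, b u v = b v u := fun u v => huniq fun k => by
    rw [← hb', ← hb', hsa', hf, hf, QuadraticMap.polar_comm]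
  have badd : ∀ u u' v, b (u + u') v = b u v + b u' v := fun u u' v => huniq fun k => by
    rw [add_mul, map_add, ← hb', ← hb', ← hb', smul_add, map_add, LinearMap.add_apply]
  have bsmul : ∀ (c : K) u v, b (c • u) v = c * b u v := fun c u v => huniq fun k => by
    rw [← hb', show c * b u v * k = b u v * (k * c) by ring, ← hb', smul_smul]
  let B : BilinForm K (ι → F) := LinearMap.mk₂ K b badd bsmul
    (fun u v v' => by rw [bsymm, badd, bsymm v, bsymm v'])
    (fun c u v => by rw [bsymm, bsmul, bsymm v, smul_eq_mul])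
  have hB : ∀ u v, μ (B u v) = polar Q u v := fun u v => by
    show μ (b u v) = _
    rw [← hf, ← one_smul K u, hb', one_smul, mul_one]
  have hnd : B.Nondegenerate := ⟨fun u hu => hQ.1 u fun v => by
      show polar Q u v = 0
      rw [← hB, hu, map_zero],
    fun v hv => hQ.1 v fun u => by
      show polar Q v u = 0
      rw [QuadraticMap.polar_comm, ← hB, hv, map_zero]⟩
  let e := oEquiv Q
  have hn5 : 5 ≤ Module.finrank F (ι → F) := by rw [Module.finrank_pi]; omega
  have hΩ : ∀ g : Cfsg.isometryGroup F (⇑Q),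
      (g : Matrix.GeneralLinearGroup ι F) ∈ Cfsg.Geo.omegaGL (⇑Q) ↔ e g ∈ eichGroup hQ := by
    intro g
    have hmap : (commutator ↥(Cfsg.isometryGroup F (⇑Q))).map e.toMonoidHom = commutator (OQ Q) := by
      rw [commutator_def, commutator_def, Subgroup.map_commutator,
        Subgroup.map_top_of_surjective _ e.surjective]
    rw [eichGroup_eq_commutator hQ hn5, ← hmap, Subgroup.mem_map_equiv, MulEquiv.symm_apply_apply]
    exact ⟨fun ⟨g', hg', hgg⟩ => by rw [← Subtype.ext hgg]; exact hg', fun h => ⟨g, h, rfl⟩⟩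
  have hmem : ∀ x, x ∈ Cfsg.Geo.omegaGL (⇑Q) → x ∈ Cfsg.isometryGroup F (⇑Q) := by
    rintro _ ⟨g, -, rfl⟩
    exact g.2
  let E : GL ι F ≃* ((ι → F) ≃ₗ[F] (ι → F)) :=
    Matrix.GeneralLinearGroup.toLin.trans (LinearMap.GeneralLinearGroup.generalLinearEquiv F (ι → F))
  have hE : ∀ (x : GL ι F) y, E x y = (x : Matrix ι ι F) *ᵥ y := fun x y => rfl
  have hEe : ∀ g : Cfsg.isometryGroup F (⇑Q), (e g : (ι → F) ≃ₗ[F] (ι → F)) = E g := fun g =>
    LinearEquiv.ext fun y => (oEquiv_apply _ _ _).trans (hE _ _).symm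
  -- normalising is semilinearity
  have hN : ∀ g : GL ι F, g ∈ Cfsg.Geo.subalgebraNormalizer K ↔ ∀ k : K, ∃ k' : K, ∀ y, E g (k • y) = k' • E g y := by
    intro g
    refine ⟨fun hg k => ⟨⟨_, (hg k.1).1 k.2⟩, fun y => ?_⟩, fun hsl => ?_⟩
    · show (g : Matrix ι ι F) *ᵥ (k.1 *ᵥ y) =
        ((g : Matrix ι ι F) * k.1 * ((g⁻¹ : GL ι F) : Matrix ι ι F)) *ᵥ ((g : Matrix ι ι F) *ᵥ y)
      rw [Matrix.mulVec_mulVec, Matrix.mulVec_mulVec, Units.inv_mul_cancel_right]
    choose σ hσ using hsl
    have hc : ∀ k : K, (g : Matrix ι ι F) * k.1 * ((g⁻¹ : GL ι F) : Matrix ι ι F) = (σ k).1 := fun k => by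
      have h1 : (g : Matrix ι ι F) * k.1 = (σ k).1 * (g : Matrix ι ι F) :=
        Matrix.toLin'.injective (LinearMap.ext fun y => by
          simp only [Matrix.toLin'_apply, ← Matrix.mulVec_mulVec]
          exact hσ k y)
      rw [h1, Units.mul_inv_cancel_right]
    have hinj : Function.Injective σ := fun a b hab => by
      have h1 := (hc a).trans ((congrArg Subtype.val hab).trans (hc b).symm)
      rw [(Units.isUnit g⁻¹).mul_left_inj, (Units.isUnit g).mul_right_inj] at h1
      exact Subtype.ext h1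
    intro k
    refine ⟨fun hk => hc ⟨k, hk⟩ ▸ (σ ⟨k, hk⟩).2, fun hk => ?_⟩
    obtain ⟨l, hl⟩ := (Finite.injective_iff_surjective.1 hinj) ⟨_, hk⟩
    have h1 := (hc l).trans (congrArg Subtype.val hl)
    rw [(Units.isUnit g⁻¹).mul_left_inj, (Units.isUnit g).mul_right_inj] at h1
    rw [← h1]
    exact l.2
  have key : ∀ M : Subgroup (GL ι F), Cfsg.Geo.subalgebraNormalizer K ⊓ Cfsg.Geo.omegaGL (⇑Q) ≤ M →
      M ≤ Cfsg.Geo.omegaGL (⇑Q) → Setup B μ (M.map E.toMonoidHom) := by
    intro M hM hMS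
    refine ⟨bsymm, hnd, hμ, h2, ?_, ?_, fun g hg => ?_, hd3, fun h3 hr2 => ?_, by rw [hK.finrank_eq]; exact hr⟩
    · rintro _ ⟨x, hx, rfl⟩ u v
      rw [hB, hB]
      have hxQ : ∀ z, Q (E x z) = Q z := fun z => (hmem x (hMS hx)) z z
      simp only [MulEquiv.coe_toMonoidHom, polar, ← map_add, hxQ]
    · rintro _ ⟨x, hx, rfl⟩
      have h1 := (hΩ ⟨x, hmem x (hMS hx)⟩).1 (hMS hx)
      rw [eichGroup_eq_commutator hQ hn5] at h1
      have h4 := Abelianization.commutator_subset_ker (LinearEquiv.det.comp (OQ Q).subtype) h1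
      rw [MonoidHom.mem_ker, MonoidHom.comp_apply, Subgroup.coe_subtype, hEe] at h4
      rw [← LinearEquiv.coe_det]
      exact congrArg Units.val h4
    · have hgO : g.restrictScalars F ∈ OQ Q := mem_OQ.2 fun z => by
        have h1 : polar Q (g z) (g z) = polar Q z z := by rw [← hB, ← hB, hg]
        rw [polar_self', polar_self'] at h1
        exact mul_left_cancel₀ h2 h1
      set h : OQ Q := ⟨_, hgO⟩
      have hh : h * h ∈ eichGroup hQ := (eichGroup_eq_commutator hQ hn5).symm ▸ mul_self_mem_commutator hQ hn5 h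
      obtain ⟨x, hx⟩ := e.surjective (h * h)
      have hxy : E x = (g.trans g).restrictScalars F := by
        rw [← hEe, hx]
        rfl
      refine ⟨x, hM ⟨(hN x).2 fun k => ⟨k, fun y => ?_⟩, (hΩ x).2 (hx.symm ▸ hh)⟩, hxy⟩
      rw [hxy]
      exact (g.trans g).map_smul k y
    · rw [hK.finrank_eq] at hr2
      rw [h3, hr2] at hdim
      omega
  refine ⟨lt_of_le_of_ne inf_le_right fun he => ?_, fun M hM hMS => ?_⟩
  · have hs := key _ le_rfl inf_le_right
    obtain ⟨x, hx, hns⟩ := hs.exists_not_semilinear hQ (fun u v => (hB u v).symm) hn5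
    obtain ⟨g, rfl⟩ := e.surjective x
    refine hns fun k => ?_
    rw [hEe]
    exact (hN g).1 (he.ge ((hΩ g).2 hx)).1 k
  have hs := key M hM hMS
  rcases hs.semilinear_or_rooted with hsl | hR
  · refine Or.inl (le_antisymm (fun x hx => ⟨(hN x).2 fun k => ?_, hMS hx⟩) hM)
    obtain ⟨σ, hσ⟩ := hsl _ (Subgroup.mem_map_of_mem _ hx)
    exact ⟨σ k, fun y => hσ k y⟩
  · refine Or.inr (le_antisymm hMS fun x hx => ?_)
    have h1 : e ⟨x, hmem x hx⟩ ∈ (M.map E.toMonoidHom).subgroupOf (OQ Q) := by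
      have hxe := (hΩ ⟨x, hmem x hx⟩).1 hx
      by_cases h4 : Module.finrank F K = 2 ∧ Module.finrank K (ι → F) = 4
      · exact hs.eichGroup_le_four hQ (fun u v => (hB u v).symm) h4.1 h4.2 hR hn5 hxe
      · refine hs.eichGroup_le hQ (fun u v => (hB u v).symm) (fun h => ?_) hR hn5 hxe
        have h4' : Module.finrank K (ι → F) ≠ 4 := fun e => h4 ⟨h, e⟩
        rw [hK.finrank_eq] at h
        rw [h] at hdim
        omega
    rw [Subgroup.mem_subgroupOf, hEe] at h1
    obtain ⟨y, hy, hy'⟩ := h1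
    have e' : y = x := E.injective hy'
    exact e' ▸ hy

end CfsgLib.Geo.OrthExt
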